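import Cfsg.Agent.J1Weak.Induct
import Cfsg.Agent.J1Char.Main
import Cfsg.Agent.Coset.J1.Matrix
import Cfsg.Agent.StdClosure.Semisimple
import Cfsg.Agent.Transfer.Basic
import Mathlib.GroupTheory.SpecificGroups.Cyclic

/-!
# The case of a group generated by a minimal subgroup
-/

set_option autoImplicit false
set_option linter.style.haveILetI false
set_option linter.unusedSectionVars false

namespace CfsgLib.J1Weak

open Subgroup (center)

universe u

variable {G : Type u} [Group G] [Finite G]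

namespace Setup

variable (D : Setup G)

theorem W_central {μ : Mover D} (hgen : D.W ⊔ Subgroup.zpowers μ.h = ⊤) :
    μ.R1 = center G := by
  refine le_antisymm (fun r hr => ?_) fun z hz => ?_
  · have hle : (⊤ : Subgroup G) ≤ cent r := by
      rw [← hgen, sup_le_iff, Subgroup.zpowers_le]
      refine ⟨fun w hw => mem_cent.2 ?_, mem_cent.2 (μ.R1_fix hr).symm⟩
      obtain ⟨m, rfl⟩ := D.exists_ι hw
      exact (D.mem_R.1 hr.1 m).symm
    exact Subgroup.mem_center_iff.2 fun g => mem_cent.1 (hle (Subgroup.mem_top g))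
  · have hzc : ∀ g, z * g = g * z := fun g => (Subgroup.mem_center_iff.1 hz g).symm
    obtain ⟨w, hw, r, hr, rfl⟩ := μ.cent_t (hzc D.t)
    obtain ⟨m, rfl⟩ := D.exists_ι hw
    have hmR : D.ι m ∈ D.R := by
      have h2 : D.ι m * r ∈ D.R := D.mem_R.2 fun a => hzc _
      simpa using mul_mem h2 (inv_mem hr.1)
    have hc : ∀ a, m * a = a * m := fun a => D.ι_inj (by
      rw [map_mul, map_mul]; exact D.mem_R.1 hmR a)
    rcases center_eq m (hc _) (hc _) with rfl | rfl
    · simpa using hr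
    · exfalso
      apply μ.h_moves
      have h1 : Commute (D.ι z * r) μ.h := hzc μ.h
      have h2 : Commute (D.ι z * r * r⁻¹) μ.h := h1.mul_left (Commute.inv_left (μ.R1_fix hr))
      rw [mul_inv_cancel_right, D.ι_z] at h2
      exact h2.eq.symm

/-- A central element of prime order lies in every Sylow subgroup. -/
theorem center_mem_sylow {p : ℕ} [Fact p.Prime] (P : Sylow p G) {r : G} (hr : r ∈ center G)
    (hp : orderOf r = p) : r ∈ (P : Subgroup G) := by
  have h2 : IsPGroup p (Subgroup.zpowers r) :=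
    IsPGroup.of_card (n := 1) (by rw [Nat.card_zpowers, hp, pow_one])
  obtain ⟨Q, hQ⟩ := h2.exists_le_sylow
  obtain ⟨c, rfl⟩ := MulAction.exists_smul_eq G P Q
  have hm := hQ (Subgroup.mem_zpowers r)
  rw [Sylow.smul_def] at hm
  have hm' := Subgroup.mem_pointwise_smul_iff_inv_smul_mem.1 hm
  have e : (MulAut.conj c)⁻¹ • r = r := by
    rw [MulAut.smul_def, MulAut.conj_inv_apply, mul_assoc, ← Subgroup.mem_center_iff.1 hr c,
      inv_mul_cancel_left]
  rwa [e] at hm'

variable {μ : Mover D} (hR : μ.R1 = center G)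

include hR

theorem CE_center {g : G} (hg : g ∈ D.CE) : ∃ e ∈ D.E, ∃ r ∈ center G, g = e * r := by
  obtain ⟨m, hm, r, hr, rfl⟩ := D.CE_decomp hg
  rcases μ.R_decomp hr with h | h
  · exact ⟨_, ⟨m, hm, rfl⟩, r, hR ▸ h, rfl⟩
  · refine ⟨D.ι m * D.t⁻¹, mul_mem ⟨m, hm, rfl⟩ (inv_mem D.t_mem_E), _, hR ▸ h, ?_⟩
    group

theorem S_comm : IsMulCommutative (D.S : Subgroup G) := by
  refine ⟨⟨fun a b => Subtype.ext ?_⟩⟩
  obtain ⟨e, he, r, hr, h1⟩ := D.CE_center hR (D.S_le_CE a.2)
  obtain ⟨e', he', r', hr', h2⟩ := D.CE_center hR (D.S_le_CE b.2)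
  show (a : G) * b = b * a
  rw [h1, h2]
  have c1 : Commute r (e' * r') := (Subgroup.mem_center_iff.1 hr _).symm
  have c2 : Commute e (e' * r') :=
    Commute.mul_right (D.E_comm he he') (Subgroup.mem_center_iff.1 hr' _)
  exact (c2.mul_left c1).eq

variable (hK : Subgroup.normalClosure ({D.t} : Set G) = ⊤)

include hK

theorem eq_top_of_normal_mem {N : Subgroup G} [N.Normal] (h : D.t ∈ N) : N = ⊤ :=
  top_le_iff.1 (hK ▸ Subgroup.normalClosure_le_normal (Set.singleton_subset_iff.2 h))

theorem perfect : commutator G = ⊤ := D.eq_top_of_normal_mem hR hK μ.t_mem_commutator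

theorem center_odd : Odd (Nat.card (center G)) := by
  rw [← Nat.not_even_iff_odd, even_iff_two_dvd]
  intro h2
  have : Fact (Nat.Prime 2) := ⟨Nat.prime_two⟩
  obtain ⟨r, hr⟩ := exists_prime_orderOf_dvd_card' 2 h2
  rw [← Subgroup.orderOf_coe] at hr
  have hmem : (r : G) ∈ ((D.S : Subgroup G) ⊓ commutator G ⊓ center G) :=
    ⟨⟨center_mem_sylow D.S r.2 hr, by rw [D.perfect hR hK]; trivial⟩, r.2⟩
  rw [TransferBasic.inf_center_inf_commutator_eq_bot (P := D.S) (D.S_comm hR), Subgroup.mem_bot] at hmem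
  rw [hmem, orderOf_one] at hr
  omega

theorem cent_center {x : G} (hx : x * D.t = D.t * x) {N : Subgroup G} [hN : N.Normal]
    (hle : center G ≤ N) (hodd : Odd (Nat.card N)) (hxN : x ∈ N) : x ∈ center G := by
  obtain ⟨w, hw, r, hr, rfl⟩ := μ.cent_t hx
  have hr' : r ∈ center G := hR ▸ hr
  have hwN : w ∈ N := by simpa using mul_mem hxN (inv_mem (hle hr'))
  obtain ⟨y, rfl⟩ := D.exists_ι hw
  suffices hy : y = 1 by simpa [hy] using hr'
  by_contra hy
  have hord : orderOf (D.ι y) ∣ 15 := by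
    have h30 : orderOf (D.ι y) ∣ 30 := orderOf_dvd_of_pow_eq_one (by
      rw [← map_pow, pow_thirty, map_one])
    have hc : (orderOf (D.ι y)).Coprime 2 :=
      (Odd.of_dvd_nat hodd (Subgroup.orderOf_dvd_natCard N hwN)).coprime_two_right
    exact hc.dvd_of_dvd_mul_left (n := 15) (by simpa using h30)
  obtain ⟨v, hv2, hv1⟩ := odd_witness y (D.ι_inj (by
    rw [map_pow, map_one]; exact orderOf_dvd_iff_pow_eq_one.1 hord)) hy
  set u := y * (v * (y * y) * v⁻¹)
  have huN : D.ι u ∈ N := by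
    simp only [u, map_mul, map_inv]
    exact mul_mem hwN (hN.conj_mem _ (mul_mem hwN hwN) _)
  have ho : orderOf (D.ι u) = 2 := orderOf_eq_prime (by
    rw [sq, ← map_mul, hv2, map_one]) fun e => hv1 (D.ι_inj (e.trans (map_one _).symm))
  have := Odd.of_dvd_nat hodd (ho ▸ Subgroup.orderOf_dvd_natCard N huN)
  exact absurd this (by decide)

theorem point_center (i : Fin 7) {x : G} (hx : D.pt i * x = x * D.pt i) {N : Subgroup G}
    [hN : N.Normal] (hle : center G ≤ N) (hodd : Odd (Nat.card N)) (hxN : x ∈ N) :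
    x ∈ center G := by
  obtain ⟨k, hk⟩ := μ.h_props.2.1 i
  have hc : ((μ.h ^ k)⁻¹ * x * (μ.h ^ k)⁻¹⁻¹) * D.t = D.t * ((μ.h ^ k)⁻¹ * x * (μ.h ^ k)⁻¹⁻¹) := by
    rw [← hk] at hx
    have := conj_commute (μ.h ^ k)⁻¹ hx
    rw [show (μ.h ^ k)⁻¹ * (μ.h ^ k * D.t * (μ.h ^ k)⁻¹) * (μ.h ^ k)⁻¹⁻¹ = D.t by group] at this
    exact this.symm
  have h := D.cent_center hR hK hc hle hodd (hN.conj_mem _ hxN _)
  have := (inferInstance : (center G).Normal).conj_mem _ h (μ.h ^ k)
  rwa [show μ.h ^ k * ((μ.h ^ k)⁻¹ * x * (μ.h ^ k)⁻¹⁻¹) * (μ.h ^ k)⁻¹ = x by group] at this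

theorem normal_cases {N : Subgroup G} [hN : N.Normal] (hle : center G ≤ N) :
    N = center G ∨ N = ⊤ := by
  have : Fact (Nat.Prime 2) := ⟨Nat.prime_two⟩
  rcases (Nat.card N).even_or_odd with he | ho
  · right
    obtain ⟨v, hv⟩ := exists_prime_orderOf_dvd_card' 2 (even_iff_two_dvd.1 he)
    rw [← Subgroup.orderOf_coe] at hv
    obtain ⟨c, -, hc⟩ := exists_conj_into (C := ⊤) D.S le_top
      (P := Subgroup.zpowers (v : G)) (IsPGroup.of_card (n := 1) (by
        rw [Nat.card_zpowers, hv, pow_one])) le_top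
    set v' := c⁻¹ * (v : G) * c with hv'
    have hv'N : v' ∈ N := by simpa [v'] using hN.conj_mem _ v.2 c⁻¹
    obtain ⟨e, he', r, hr, her⟩ := D.CE_center hR (D.S_le_CE (hc _ (Subgroup.mem_zpowers _)))
    have hsq : v' * v' = 1 := by
      have : (v : G) * v = 1 := by rw [← sq, ← hv, pow_orderOf_eq_one]
      rw [hv', show c⁻¹ * (v : G) * c * (c⁻¹ * v * c) = c⁻¹ * ((v : G) * v) * c by group, this,
        mul_one, inv_mul_cancel]
    have hee : e * e = 1 := by
      obtain ⟨m, hm, rfl⟩ := he'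
      rw [← map_mul, hm.2, map_one]
    have hr2 : r * r = 1 := by
      have hcr : Commute r e := (Subgroup.mem_center_iff.1 hr e).symm
      rw [← hv', ] at her
      rw [her, hcr.mul_mul_mul_comm, hee, one_mul] at hsq
      exact hsq
    have hr1 : r = 1 := by
      by_contra hne
      have := Odd.of_dvd_nat (D.center_odd hR hK)
        ((orderOf_eq_prime (by rw [sq, hr2]) hne : orderOf r = 2) ▸
          Subgroup.orderOf_dvd_natCard _ hr)
      exact absurd this (by decide)
    rw [hr1, mul_one] at her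
    obtain ⟨k, hk⟩ := μ.exists_orbit he' (fun e1 => by
      rw [e1, ← hv', hv', mul_assoc, inv_mul_eq_one] at her
      rw [mul_eq_right.1 her.symm] at hv
      simp at hv)
    refine D.eq_top_of_normal_mem hR hK ?_
    rw [← hv', ← hk] at her
    rw [her] at hv'N
    have := hN.conj_mem _ hv'N (μ.h ^ k)⁻¹
    rwa [show (μ.h ^ k)⁻¹ * (μ.h ^ k * D.t * (μ.h ^ k)⁻¹) * (μ.h ^ k)⁻¹⁻¹ = D.t by group] at this
  · left
    refine le_antisymm (fun x hx => ?_) hle
    have ha : ∀ i, D.pt i * D.pt i = 1 := fun i => by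
      rw [pt, ← map_mul, (pts_mem i).1.2, map_one]
    have h4 : D.pt 1 * D.pt 0 = D.pt 4 := by
      rw [pt, pt, pt, ← map_mul, pts_zero, z_central, z_mul_pts.1]
    have hall := StdClosure.four_fixed (O := N) ho (ha 1) (ha 0) (D.E_comm (D.pt_mem 1) (D.pt_mem 0))
      (fun y hy h => (Subgroup.mem_center_iff.1
        (D.point_center hR hK 0 h hle ho hy) _))
      (fun y hy h => (Subgroup.mem_center_iff.1
        (D.point_center hR hK 4 (h4 ▸ h) hle ho hy) _))
    exact D.point_center hR hK 1 (hall x hx) hle ho hx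

theorem iso_quotient : Cfsg.Spor.IsoJ1 (G ⧸ center G) := by
  set q := QuotientGroup.mk' (center G)
  have hq : Function.Surjective q := QuotientGroup.mk'_surjective _
  have hne : center G ≠ ⊤ := by
    intro e
    refine μ.h_moves (Subgroup.mem_center_iff.1 (e ▸ Subgroup.mem_top D.t) μ.h)
  have : Nontrivial (G ⧸ center G) := QuotientGroup.nontrivial_iff.2 hne
  have : IsSimpleGroup (G ⧸ center G) := by
    refine ⟨fun N hN => ?_⟩
    have hle : center G ≤ N.comap q := fun a ha => by
      show q a ∈ N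
      rw [show q a = 1 from (QuotientGroup.eq_one_iff a).2 ha]; exact one_mem N
    rcases D.normal_cases hR hK hle with h | h
    · left
      rw [← Subgroup.map_comap_eq_self_of_surjective hq N, h]
      exact (Subgroup.map_eq_bot_iff _).2 (QuotientGroup.ker_mk' _).ge
    · right
      rw [← Subgroup.map_comap_eq_self_of_surjective hq N, h,
        Subgroup.map_top_of_surjective _ hq]
  have hodd := D.center_odd hR hK
  have htz : D.t ∉ center G := fun h => μ.h_moves (Subgroup.mem_center_iff.1 h μ.h)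
  have ht : orderOf (q D.t) = 2 := by
    refine orderOf_eq_prime ?_ fun e => htz ((QuotientGroup.eq_one_iff _).1 e)
    rw [← map_pow, ← D.ord, pow_orderOf_eq_one, map_one]
  let f : M →* cent (q D.t) := (q.comp D.ι).codRestrict _ fun m => mem_cent.2 (by
    show q (D.ι m) * q D.t = q D.t * q (D.ι m)
    rw [← map_mul, ← map_mul, D.ι_commute_t])
  have hfi : Function.Injective f := by
    refine (injective_iff_map_eq_one f).2 fun m hm => ?_
    have h1 : D.ι m ∈ center G := (QuotientGroup.eq_one_iff _).1 (congrArg Subtype.val hm)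
    rw [← hR] at h1
    exact D.ι_inj ((μ.R1_inf_W h1 (D.ι_mem m)).trans (map_one _).symm)
  have hfs : Function.Surjective f := by
    rintro ⟨a, ha⟩
    obtain ⟨g, rfl⟩ := hq a
    have h1 : g * D.t * g⁻¹ * D.t⁻¹ ∈ center G := by
      refine (QuotientGroup.eq_one_iff _).1 ?_
      show q _ = 1
      rw [map_mul, map_mul, map_mul, mem_cent.1 ha, map_inv, map_inv, mul_inv_cancel_right,
        mul_inv_cancel]
    set r := g * D.t * g⁻¹ * D.t⁻¹ with hr
    have hdr : g * D.t * g⁻¹ = r * D.t := by rw [hr, inv_mul_cancel_right]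
    have hr2 : r * r = 1 := by
      have hsq := (D.isD_t.conj g).sq
      rw [hdr, Commute.mul_mul_mul_comm (Subgroup.mem_center_iff.1 h1 D.t), D.isD_t.sq,
        mul_one] at hsq
      exact hsq
    have hr1 : r = 1 := by
      by_contra hne
      have := Odd.of_dvd_nat hodd
        ((orderOf_eq_prime (by rw [sq, hr2]) hne : orderOf r = 2) ▸
          Subgroup.orderOf_dvd_natCard _ h1)
      exact absurd this (by decide)
    rw [hr1, one_mul] at hdr
    obtain ⟨w, hw, s, hs, rfl⟩ := μ.cent_t (fix_conj hdr)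
    obtain ⟨m, rfl⟩ := D.exists_ι hw
    refine ⟨m, Subtype.ext ?_⟩
    show q (D.ι m) = q (D.ι m * s)
    rw [map_mul, show q s = 1 from (QuotientGroup.eq_one_iff s).2 (hR ▸ hs), mul_one]
  refine J1Char.iso_J1 ht (MulEquiv.ofBijective f ⟨hfi, hfs⟩).symm
    ⟨D.S.mapSurjective hq, ⟨D.t, D.htS, rfl⟩, ?_⟩
  rintro _ ⟨s, hs, rfl⟩
  rw [← map_mul, ← map_mul, D.hSc s hs]

theorem iso_of_central : Cfsg.Spor.IsoJ1 G := by
  obtain ⟨e⟩ := D.iso_quotient hR hK
  have hcard : Nat.card (G ⧸ center G) = 175560 :=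
    (Nat.card_congr e.toEquiv).trans Coset.J1.spor_isJ1.2
  suffices hbot : center G = ⊥ by
    exact ⟨(((QuotientGroup.quotientMulEquivOfEq hbot).trans QuotientGroup.quotientBot).symm).trans e⟩
  by_contra hne
  have hc1 : Nat.card (center G) ≠ 1 := fun h => hne (Subgroup.card_eq_one.1 h)
  obtain ⟨p, hp, hpd⟩ := Nat.exists_prime_and_dvd hc1
  have : Fact p.Prime := ⟨hp⟩
  obtain ⟨r, hr⟩ := exists_prime_orderOf_dvd_card' p hpd
  rw [← Subgroup.orderOf_coe] at hr
  have hp2 : Odd p := Odd.of_dvd_nat (D.center_odd hR hK) hpd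
  let P : Sylow p G := default
  have hPc : IsMulCommutative (P : Subgroup G) := by
    let Q := P.mapSurjective (QuotientGroup.mk'_surjective (center G))
    have hQ : Nat.card Q ∣ p := by
      rw [Q.card_eq_multiplicity, hcard]
      have hle : (175560 : ℕ).factorization p ≤ 1 := by
        by_contra hlt
        have hd : p ^ 2 ∣ 175560 :=
          (pow_dvd_pow p (Nat.not_le.1 hlt : 2 ≤ _)).trans (Nat.ordProj_dvd _ _)
        have hd' : p ^ 2 ∣ 21945 := by
          refine Nat.Coprime.dvd_of_dvd_mul_left (k := p ^ 2) ?_ (show p ^ 2 ∣ 8 * 21945 from hd)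
          rw [show (8 : ℕ) = 2 ^ 3 by norm_num]
          exact Nat.Coprime.pow 2 3 (Nat.coprime_two_right.2 hp2)
        have hsf : Squarefree 21945 := by decide +kernel
        exact hp.ne_one (Nat.isUnit_iff.1 (hsf p (by rwa [← sq])))
      exact (pow_dvd_pow p hle).trans (pow_one p).dvd
    let f : (P : Subgroup G) →* (Q : Subgroup (G ⧸ center G)) :=
      ((QuotientGroup.mk' (center G)).comp (P : Subgroup G).subtype).codRestrict _
        fun a => ⟨a, a.2, rfl⟩
    have : IsCyclic (Q : Subgroup (G ⧸ center G)) := by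
      rcases (Nat.dvd_prime hp).1 hQ with h | h
      · have := (Nat.card_eq_one_iff_unique.1 h).1
        infer_instance
      · exact isCyclic_of_prime_card h
    refine ⟨⟨fun a b => commutative_of_cyclic_center_quotient f (fun c hc => ?_) a b⟩⟩
    have hc' : (c : G) ∈ center G := (QuotientGroup.eq_one_iff _).1 (congrArg Subtype.val hc)
    exact Subgroup.mem_center_iff.2 fun d => Subtype.ext (Subgroup.mem_center_iff.1 hc' d)
  have hmem : (r : G) ∈ ((P : Subgroup G) ⊓ commutator G ⊓ center G) :=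
    ⟨⟨center_mem_sylow P r.2 hr, by rw [D.perfect hR hK]; trivial⟩, r.2⟩
  rw [TransferBasic.inf_center_inf_commutator_eq_bot (P := P) hPc, Subgroup.mem_bot] at hmem
  rw [hmem, orderOf_one] at hr
  exact hp.ne_one hr.symm

end Setup

end CfsgLib.J1Weak
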