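import Cfsg.Agent.J1Weak.Local

/-!
# Minimal subgroups containing the weak closure and moving `t`
-/

set_option autoImplicit false
set_option linter.style.haveILetI false
set_option linter.unusedSectionVars false

namespace CfsgLib.J1Weak

universe u

variable {G : Type u} [Group G]

/-- `X` contains the weak closure and moves `t` inside it. -/
def Moves (t : G) (X : Subgroup G) : Prop :=
  wc t ≤ X ∧ ∃ g ∈ X, g * t * g⁻¹ ∈ wc t ∧ g * t * g⁻¹ ≠ t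

/-- A minimal such subgroup. -/
def IsMin (t : G) (Γ : Subgroup G) : Prop :=
  Moves t Γ ∧ ∀ Y : Subgroup G, Y ≤ Γ → Moves t Y → Y = Γ

/-- The subgroup generated by the conjugates of `t` under `X`. -/
def KX (t : G) (X : Subgroup G) : Subgroup G :=
  Subgroup.closure {y : G | ∃ g ∈ X, y = g * t * g⁻¹}

theorem exists_isMin [Finite G] {t : G} {X : Subgroup G} (hX : Moves t X) :
    ∃ Γ, Γ ≤ X ∧ IsMin t Γ := by
  classical
  have hex : ∃ n, ∃ Y : Subgroup G, Y ≤ X ∧ Moves t Y ∧ Nat.card Y = n := ⟨_, X, le_rfl, hX, rfl⟩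
  obtain ⟨Γ, hle, hm, hc⟩ := Nat.find_spec hex
  refine ⟨Γ, hle, hm, fun Y hY hYm => Subgroup.eq_of_le_of_card_ge hY ?_⟩
  exact hc.le.trans (Nat.find_min' hex ⟨Y, hY.trans hle, hYm, rfl⟩)

theorem KX_le {t : G} {X : Subgroup G} (ht : t ∈ X) : KX t X ≤ X :=
  (Subgroup.closure_le _).2 fun _ ⟨_, hg, e⟩ => e ▸ mul_mem (mul_mem hg ht) (inv_mem hg)

theorem KX_mono {t : G} {X Y : Subgroup G} (h : X ≤ Y) : KX t X ≤ KX t Y :=
  Subgroup.closure_mono fun _ ⟨g, hg, e⟩ => ⟨g, h hg, e⟩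

theorem KX_conj {t : G} {X : Subgroup G} {g y : G} (hg : g ∈ X) (hy : y ∈ KX t X) :
    g * y * g⁻¹ ∈ KX t X := by
  have : KX t X ≤ (KX t X).comap (MulAut.conj g).toMonoidHom :=
    (Subgroup.closure_le _).2 fun a ⟨k, hk, e⟩ =>
      Subgroup.subset_closure ⟨g * k, mul_mem hg hk, by
        show g * a * g⁻¹ = _
        rw [e]; group⟩
  exact this hy

theorem map_normalClosure {X : Subgroup G} {t : G} (ht : t ∈ X) :
    (Subgroup.normalClosure ({⟨t, ht⟩} : Set X)).map X.subtype = KX t X := by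
  rw [Subgroup.normalClosure, MonoidHom.map_closure]
  congr 1
  ext y
  simp only [Set.mem_image, Group.mem_conjugatesOfSet_iff, Set.mem_singleton_iff, exists_eq_left,
    isConj_iff]
  constructor
  · rintro ⟨a, ⟨c, rfl⟩, rfl⟩
    exact ⟨c, c.2, rfl⟩
  · rintro ⟨g, hg, rfl⟩
    exact ⟨_, ⟨⟨g, hg⟩, rfl⟩, rfl⟩

namespace Setup

variable (D : Setup G) [Finite G]

theorem weakly_closed_conj {g : G} (h : ∀ y ∈ D.E, g⁻¹ * y * g ∈ (D.S : Subgroup G)) : g ∈ D.N := by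
  have := D.weakly_closed (g := g⁻¹) fun y hy => by rw [inv_inv]; exact h y hy
  simpa using inv_mem this

/-- A `2`-group containing `E` centralises it, and its conjugates of `t` lie in `E`. -/
theorem two_over_E {P : Subgroup G} (hP : IsPGroup 2 P) (hE : D.E ≤ P) :
    P ≤ D.CE ∧ ∀ y ∈ P, D.IsD y → y ∈ D.E := by
  obtain ⟨g, -, hg⟩ := exists_conj_into (C := ⊤) D.S le_top hP le_top
  have hgN : g ∈ D.N := D.weakly_closed_conj fun y hy => hg y (hE hy)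
  refine ⟨fun y hy => ?_, fun y hy hyD => ?_⟩
  · have := Mover.CE_conj (D := D) hgN (D.S_le_CE (hg y hy))
    rwa [show g * (g⁻¹ * y * g) * g⁻¹ = y by group] at this
  · have h1 : g⁻¹ * y * g ∈ D.E := D.isD_S (by simpa using hyD.conj g⁻¹) (hg y hy)
    have := D.N_conj hgN h1
    rwa [show g * (g⁻¹ * y * g) * g⁻¹ = y by group] at this

/-- A mover lying in a subgroup which moves `t`. -/
theorem exists_mover {X : Subgroup G} (hX : Moves D.t X) : ∃ μ : Mover D, μ.n ∈ X := by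
  obtain ⟨hW, g, hg, hgW, hgne⟩ := hX
  have hgD : D.IsD (g * D.t * g⁻¹) := D.isD_t.conj g
  obtain ⟨w, hwW, hwE⟩ := D.exists_conj_into_E hgW hgD.sq
  have hwt := wc_commute hwW
  set g' := w * g with hg'
  have hg'E : g' * D.t * g'⁻¹ ∈ D.E := by
    rwa [hg', show w * g * D.t * (w * g)⁻¹ = w * (g * D.t * g⁻¹) * w⁻¹ by group]
  have hg'ne : g' * D.t * g'⁻¹ ≠ D.t := by
    intro e
    rw [hg', show w * g * D.t * (w * g)⁻¹ = w * (g * D.t * g⁻¹) * w⁻¹ by group] at e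
    apply hgne
    have e' := congrArg (fun a => w⁻¹ * a * w) e
    rw [show w⁻¹ * (w * (g * D.t * g⁻¹) * w⁻¹) * w = g * D.t * g⁻¹ by group, mul_assoc w⁻¹,
      ← hwt, inv_mul_cancel_left] at e'
    exact e'
  have hg'X : g' ∈ X := mul_mem (hW hwW) hg
  -- move `E` back into a Sylow subgroup of the centraliser of `t` in `X`
  have : Fact (Nat.Prime 2) := ⟨Nat.prime_two⟩
  have hEpg : IsPGroup 2 D.E := IsPGroup.of_card (p := 2) (n := 3) (by rw [D.card_E]; norm_num)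
  set L : Subgroup G := X ⊓ cent D.t
  have hEL : D.E ≤ L := le_inf (D.E_le_W.trans hW) fun y hy => mem_cent.2 (D.E_comm hy D.t_mem_E)
  set Eg : Subgroup G := D.E.map (MulAut.conj g'⁻¹).toMonoidHom with hEg
  have hEgL : Eg ≤ L := by
    rintro _ ⟨y, hy, rfl⟩
    show g'⁻¹ * y * g'⁻¹⁻¹ ∈ L
    refine Subgroup.mem_inf.2 ⟨mul_mem (mul_mem (inv_mem hg'X) (hW (D.E_le_W hy)))
      (by simpa using hg'X), mem_cent.2 ?_⟩
    have := conj_commute g'⁻¹ (D.E_comm hy hg'E)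
    rwa [show g'⁻¹ * (g' * D.t * g'⁻¹) * g'⁻¹⁻¹ = D.t by group] at this
  obtain ⟨T, hT⟩ := (hEpg.comap_of_injective L.subtype L.subtype_injective).exists_le_sylow
  obtain ⟨c, -, hc⟩ := exists_conj_into (C := (⊤ : Subgroup L)) T le_top
    ((hEpg.map (MulAut.conj g'⁻¹).toMonoidHom).comap_of_injective L.subtype L.subtype_injective)
    le_top
  have hTG : IsPGroup 2 ((T : Subgroup L).map L.subtype) := T.2.map _
  have hET : D.E ≤ (T : Subgroup L).map L.subtype := fun y hy =>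
    ⟨⟨y, hEL hy⟩, hT (show L.subtype ⟨y, hEL hy⟩ ∈ D.E from hy), rfl⟩
  set a := (c : G)⁻¹ * g'⁻¹ with ha
  have haT : ∀ y ∈ D.E, a * y * a⁻¹ ∈ (T : Subgroup L).map L.subtype := by
    intro y hy
    have hy' : g'⁻¹ * y * g'⁻¹⁻¹ ∈ Eg := ⟨y, hy, rfl⟩
    refine ⟨_, hc ⟨_, hEgL hy'⟩ hy', ?_⟩
    rw [ha]
    simp [mul_assoc]
  obtain ⟨gs, -, hgs⟩ := exists_conj_into (C := ⊤) D.S le_top hTG le_top
  have hgsN : gs ∈ D.N := D.weakly_closed_conj fun y hy => hgs y (hET hy)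
  have haN : gs⁻¹ * a ∈ D.N := D.weakly_closed fun y hy => by
    have := hgs _ (haT y hy)
    rwa [show gs⁻¹ * a * y * (gs⁻¹ * a)⁻¹ = gs⁻¹ * (a * y * a⁻¹) * gs by group]
  have haN' : a ∈ D.N := by simpa using mul_mem hgsN haN
  have hcX : (c : G) ∈ X ∧ (c : G) * D.t = D.t * (c : G) :=
    ⟨(Subgroup.mem_inf.1 (c : L).2).1, mem_cent.1 (Subgroup.mem_inf.1 (c : L).2).2⟩
  refine ⟨⟨a⁻¹, inv_mem haN', fun e => hg'ne ?_⟩, ?_⟩
  · have h1 : a⁻¹ * D.t * a = g' * D.t * g'⁻¹ := by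
      rw [ha, show ((c : G)⁻¹ * g'⁻¹)⁻¹ * D.t * ((c : G)⁻¹ * g'⁻¹)
        = g' * ((c : G) * D.t * (c : G)⁻¹) * g'⁻¹ by group, conj_fix hcX.2]
    rw [← h1]
    simpa using conj_fix e
  · show a⁻¹ ∈ X
    exact inv_mem (mul_mem (inv_mem hcX.1) (inv_mem hg'X))

theorem moves_top : Moves D.t ⊤ := by
  obtain ⟨n, hn⟩ := D.exists_move_all 1
  refine ⟨le_top, n, Subgroup.mem_top _, ?_⟩
  have h := D.perm_spec n 0
  rw [hn, pt_zero] at h
  rw [← h]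
  exact ⟨D.ι_mem _, fun e =>
    absurd (D.pt_injective (a₁ := 1) (a₂ := 0) (e.trans D.pt_zero.symm)) (by decide)⟩

theorem exists_isMin_top : ∃ Γ, IsMin D.t Γ :=
  let ⟨Γ, _, h⟩ := exists_isMin D.moves_top
  ⟨Γ, h⟩

theorem mover_h_mem {X : Subgroup G} (hW : D.W ≤ X) {μ : Mover D} (hn : μ.n ∈ X) : μ.h ∈ X :=
  mul_mem (mul_mem (mul_mem hn (hW D.x_mem_W)) (inv_mem hn)) (inv_mem (hW D.x_mem_W))

/-- Every conjugate of `t` in the weak closure is conjugate to `t` inside `X`. -/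
theorem wcSet_conj {X : Subgroup G} (hX : Moves D.t X) {y : G} (hy : y ∈ D.W) (hyD : D.IsD y) :
    ∃ g ∈ X, y = g * D.t * g⁻¹ := by
  obtain ⟨μ, hμ⟩ := D.exists_mover hX
  obtain ⟨w, hw, hwE⟩ := D.exists_conj_into_E hy hyD.sq
  obtain ⟨k, hk⟩ := μ.exists_orbit hwE (fun e => hyD.ne_one (conj_eq_one_iff.1 e))
  refine ⟨w⁻¹ * μ.h ^ k,
    mul_mem (inv_mem (hX.1 hw)) (pow_mem (D.mover_h_mem hX.1 hμ) k), ?_⟩
  rw [show w⁻¹ * μ.h ^ k * D.t * (w⁻¹ * μ.h ^ k)⁻¹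
    = w⁻¹ * (μ.h ^ k * D.t * (μ.h ^ k)⁻¹) * w by group, hk]
  group

theorem W_le_KX {X : Subgroup G} (hX : Moves D.t X) : D.W ≤ KX D.t X :=
  (Subgroup.closure_le _).2 fun y ⟨g, hg, hc⟩ =>
    Subgroup.subset_closure (D.wcSet_conj hX (D.mem_W_of_isD ⟨g, hg⟩ hc) ⟨g, hg⟩)

theorem moves_KX {X : Subgroup G} (hX : Moves D.t X) : Moves D.t (KX D.t X) := by
  obtain ⟨μ, hμ⟩ := D.exists_mover hX
  refine ⟨D.W_le_KX hX, μ.h, ?_, μ.h_conj_t.1, μ.h_conj_t.2⟩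
  exact mul_mem (KX_conj hμ (D.W_le_KX hX D.x_mem_W)) (inv_mem (D.W_le_KX hX D.x_mem_W))

theorem t_mem_moves {X : Subgroup G} (hX : Moves D.t X) : D.t ∈ X :=
  hX.1 (D.E_le_W D.t_mem_E)

theorem min_eq_KX {Γ : Subgroup G} (hΓ : IsMin D.t Γ) : KX D.t Γ = Γ :=
  hΓ.2 _ (KX_le (D.t_mem_moves hΓ.1)) (D.moves_KX hΓ.1)

theorem min_eq_gen {Γ : Subgroup G} (hΓ : IsMin D.t Γ) {μ : Mover D} (hμ : μ.n ∈ Γ) :
    D.W ⊔ Subgroup.zpowers μ.h = Γ :=
  hΓ.2 _ (sup_le hΓ.1.1 (Subgroup.zpowers_le.2 (D.mover_h_mem hΓ.1.1 hμ)))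
    ⟨le_sup_left, μ.h, Subgroup.mem_sup_right (Subgroup.mem_zpowers _), μ.h_conj_t⟩

/-- All conjugates of `t` in `X` are conjugate inside `X`. -/
theorem isD_conj_in {X : Subgroup G} (hX : Moves D.t X) {y : G} (hy : y ∈ X) (hyD : D.IsD y) :
    ∃ g ∈ X, y = g * D.t * g⁻¹ := by
  have : Fact (Nat.Prime 2) := ⟨Nat.prime_two⟩
  have hEpg : IsPGroup 2 D.E := IsPGroup.of_card (p := 2) (n := 3) (by rw [D.card_E]; norm_num)
  obtain ⟨Q, hQ⟩ := (hEpg.comap_of_injective X.subtype X.subtype_injective).exists_le_sylow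
  have hy2 : IsPGroup 2 (Subgroup.zpowers (⟨y, hy⟩ : X)) := IsPGroup.of_card (n := 1) (by
    rw [Nat.card_zpowers, Subgroup.orderOf_mk, hyD.orderOf, pow_one])
  obtain ⟨c, -, hc⟩ := exists_conj_into (C := (⊤ : Subgroup X)) Q le_top hy2 le_top
  have h1 : (c : G)⁻¹ * y * (c : G) ∈ (Q : Subgroup X).map X.subtype :=
    ⟨_, hc _ (Subgroup.mem_zpowers _), rfl⟩
  have h2 : (c : G)⁻¹ * y * (c : G) ∈ D.E :=
    (D.two_over_E (Q.2.map X.subtype) fun a ha => ⟨⟨a, hX.1 (D.E_le_W ha)⟩,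
      hQ (show X.subtype ⟨a, hX.1 (D.E_le_W ha)⟩ ∈ D.E from ha), rfl⟩).2 _ h1
      (by simpa using hyD.conj (c : G)⁻¹)
  obtain ⟨g, hg, e⟩ := D.wcSet_conj hX (D.E_le_W h2) (by simpa using hyD.conj (c : G)⁻¹)
  exact ⟨c * g, mul_mem c.2 hg, by
    rw [show (c : G) * g * D.t * ((c : G) * g)⁻¹ = c * (g * D.t * g⁻¹) * (c : G)⁻¹ by group, ← e]
    group⟩

/-- The hypothesis passes to subgroups moving `t`. -/
theorem hyp_subgroup {X : Subgroup G} (hX : Moves D.t X) :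
    Hyp (⟨D.t, D.t_mem_moves hX⟩ : X) ∧
      (wc (⟨D.t, D.t_mem_moves hX⟩ : X)).map X.subtype = wc D.t := by
  have : Fact (Nat.Prime 2) := ⟨Nat.prime_two⟩
  have hmap : (wc (⟨D.t, D.t_mem_moves hX⟩ : X)).map X.subtype = wc D.t := by
    rw [wc, MonoidHom.map_closure]
    congr 1
    ext y
    constructor
    · rintro ⟨a, ⟨g, rfl, hc⟩, rfl⟩
      exact ⟨g, rfl, congrArg Subtype.val hc⟩
    · intro hy
      obtain ⟨g, hg, e⟩ := D.wcSet_conj hX (Subgroup.subset_closure hy) ⟨_, hy.choose_spec.1⟩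
      exact ⟨⟨y, hX.1 (Subgroup.subset_closure hy)⟩,
        ⟨⟨g, hg⟩, Subtype.ext e, Subtype.ext hy.choose_spec.2⟩, rfl⟩
  refine ⟨⟨?_, ?_, ?_⟩, hmap⟩
  · rw [Subgroup.orderOf_mk, D.ord]
  · have hEpg : IsPGroup 2 D.E := IsPGroup.of_card (p := 2) (n := 3) (by rw [D.card_E]; norm_num)
    obtain ⟨Q, hQ⟩ := (hEpg.comap_of_injective X.subtype X.subtype_injective).exists_le_sylow
    refine ⟨Q, hQ (show X.subtype _ ∈ D.E from D.t_mem_E), fun s hs => Subtype.ext ?_⟩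
    show (s : G) * D.t = D.t * (s : G)
    exact D.CE_commute_t ((D.two_over_E (Q.2.map X.subtype) fun a ha => ⟨⟨a, hX.1 (D.E_le_W ha)⟩,
      hQ (show X.subtype ⟨a, hX.1 (D.E_le_W ha)⟩ ∈ D.E from ha), rfl⟩).1 ⟨_, hs, rfl⟩)
  · exact ⟨((Subgroup.equivMapOfInjective _ _ X.subtype_injective).trans
      (MulEquiv.subgroupCongr hmap)).trans
      ((MulEquiv.subgroupCongr D.ι_range.symm).trans (MonoidHom.ofInjective D.ι_inj).symm)⟩

end Setup

end CfsgLib.J1Weak
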