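import Cfsg.Agent.J1Weak.Gamma

/-!
# Consequences of the induction hypothesis
-/

set_option autoImplicit false
set_option linter.style.haveILetI false
set_option linter.unusedSectionVars false

namespace CfsgLib.J1Weak

universe u

variable {G : Type u} [Group G]

/-- The induction hypothesis. -/
def IH (G : Type u) : Prop :=
  ∀ (H : Type u) [Group H] [Finite H] (s : H), Nat.card H < Nat.card G → Hyp s → Goal s

theorem KX_top (t : G) : KX t ⊤ = Subgroup.normalClosure ({t} : Set G) := by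
  rw [KX, Subgroup.normalClosure]
  congr 1
  ext y
  simp [Group.mem_conjugatesOfSet_iff, isConj_iff, eq_comm]

theorem isoJ1_congr {A B : Type*} [Group A] [Group B] (e : A ≃* B) (h : Cfsg.Spor.IsoJ1 A) :
    Cfsg.Spor.IsoJ1 B :=
  h.map fun f => e.symm.trans f

namespace Setup

variable (D : Setup G) [Finite G]

theorem below (ih : IH G) {X Γ : Subgroup G} (hX : X ≠ ⊤) (hΓX : Γ ≤ X) (hΓ : IsMin D.t Γ) :
    KX D.t X = Γ ∧ Cfsg.Spor.IsoJ1 Γ ∧ X ≤ Subgroup.normalizer (Γ : Set G) := by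
  have hXm : Moves D.t X := ⟨hΓ.1.1.trans hΓX, by
    obtain ⟨g, hg, h⟩ := hΓ.1.2; exact ⟨g, hΓX hg, h⟩⟩
  obtain ⟨hyp, hmap⟩ := D.hyp_subgroup hXm
  have hcard : Nat.card X < Nat.card G := by
    by_contra hlt
    exact hX (Subgroup.eq_top_of_le_card X (not_lt.1 hlt))
  obtain ⟨h1, h2⟩ := ih X _ hcard hyp
  have hsub : KX D.t X ≤ Γ := by
    rw [← map_normalClosure (D.t_mem_moves hXm)]
    refine Subgroup.map_le_iff_le_comap.2 (h2 _ ?_ ?_)
    · rw [← Subgroup.map_le_iff_le_comap, hmap]; exact hΓ.1.1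
    · obtain ⟨g, hg, hgW, hgne⟩ := hΓ.1.2
      refine ⟨⟨g, hΓX hg⟩, hg, ?_, fun e => hgne (congrArg Subtype.val e)⟩
      rw [← hmap] at hgW
      obtain ⟨a, ha, hae⟩ := hgW
      exact (Subtype.ext hae : a = ⟨g, hΓX hg⟩ * ⟨D.t, _⟩ * ⟨g, hΓX hg⟩⁻¹) ▸ ha
  have he : KX D.t X = Γ := le_antisymm hsub ((D.min_eq_KX hΓ).ge.trans (KX_mono hΓX))
  refine ⟨he, ?_, fun g hg => ?_⟩
  · refine isoJ1_congr ?_ h1
    exact (Subgroup.equivMapOfInjective _ _ X.subtype_injective).trans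
      (MulEquiv.subgroupCongr ((map_normalClosure (D.t_mem_moves hXm)).trans he))
  · rw [Subgroup.mem_normalizer_iff]
    intro y
    rw [← he]
    refine ⟨KX_conj hg, fun hy => ?_⟩
    have := KX_conj (inv_mem hg) hy
    rwa [show g⁻¹ * (g * y * g⁻¹) * g⁻¹⁻¹ = y by group] at this

/-- If the conjugates of `t` do not generate `G`. -/
theorem goal_of_proper (ih : IH G) (hK : Subgroup.normalClosure ({D.t} : Set G) ≠ ⊤) :
    Goal D.t := by
  set K := Subgroup.normalClosure ({D.t} : Set G) with hKdef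
  have key : ∀ Γ, IsMin D.t Γ → Γ = K ∧ Cfsg.Spor.IsoJ1 Γ := by
    intro Γ hΓ
    have hle : Γ ≤ K := by
      rw [← D.min_eq_KX hΓ, hKdef, ← KX_top]
      exact KX_mono le_top
    obtain ⟨he, hiso, -⟩ := D.below ih hK hle hΓ
    refine ⟨le_antisymm hle ?_, hiso⟩
    rw [← he, hKdef, ← KX_top]
    refine (Subgroup.closure_le _).2 fun y ⟨g, _, e⟩ => ?_
    have hyK : y ∈ K := by
      rw [hKdef, ← KX_top]; exact Subgroup.subset_closure ⟨g, trivial, e⟩
    have hKm : Moves D.t K := ⟨hΓ.1.1.trans hle, by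
      obtain ⟨g, hg, h⟩ := hΓ.1.2; exact ⟨g, hle hg, h⟩⟩
    have := D.isD_conj_in hKm hyK ⟨g, e⟩
    rw [KX_top]
    exact Subgroup.subset_closure this
  refine ⟨?_, fun X hW hX => ?_⟩
  · obtain ⟨Γ, hΓ⟩ := D.exists_isMin_top
    obtain ⟨rfl, h⟩ := key Γ hΓ
    exact h
  · obtain ⟨Γ, hle, hΓ⟩ := exists_isMin (X := X) ⟨hW, hX⟩
    obtain ⟨rfl, -⟩ := key Γ hΓ
    exact hle

/-- If every minimal subgroup is the whole group. -/
theorem goal_of_top (hK : Subgroup.normalClosure ({D.t} : Set G) = ⊤)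
    (htop : ∀ Γ, IsMin D.t Γ → Γ = ⊤) (hiso : Cfsg.Spor.IsoJ1 G) : Goal D.t := by
  refine ⟨?_, fun X hW hX => ?_⟩
  · rw [hK]; exact isoJ1_congr Subgroup.topEquiv.symm hiso
  · obtain ⟨Γ, hle, hΓ⟩ := exists_isMin (X := X) ⟨hW, hX⟩
    rw [htop Γ hΓ, top_le_iff] at hle
    rw [hle]; exact le_top

end Setup

end CfsgLib.J1Weak
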