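import Cfsg.Agent.J1Weak.Model
import Mathlib.GroupTheory.GroupAction.Quotient
import Mathlib.GroupTheory.Index
import Mathlib.Tactic.NormNum.Prime

/-!
# Transitive groups on seven points with a small stabiliser
-/

set_option autoImplicit false
set_option linter.style.haveILetI false

namespace CfsgLib.J1Weak

open Equiv

/-- The hypothesis: transitive, the stabiliser of `0` stabilises `{1,2,3}`, is determined by the images
of `1, 2` and contains an element of order three. -/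
structure Seven (A : Subgroup (Perm (Fin 7))) (s : Perm (Fin 7)) : Prop where
  trans : ∀ i, ∃ a ∈ A, a 0 = i
  mem : s ∈ A
  s_eq : ∀ i, s i = sig i
  three : ∀ a ∈ A, a 0 = 0 → ∀ i : Fin 7, i = 1 ∨ i = 2 ∨ i = 3 → a i = 1 ∨ a i = 2 ∨ a i = 3
  det : ∀ a ∈ A, a 0 = 0 → a 1 = 1 → a 2 = 2 → a = 1

namespace Seven

variable {A : Subgroup (Perm (Fin 7))} {s : Perm (Fin 7)}

theorem sig_fix : ∀ i, sig i = i → i = 0 := by decide

theorem s_zero (h : Seven A s) : s 0 = 0 := (h.s_eq 0).trans rfl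

theorem s_order (h : Seven A s) : orderOf s = 3 := by
  have : Fact (Nat.Prime 3) := ⟨Nat.prime_three⟩
  refine orderOf_eq_prime (Perm.ext fun i => ?_) fun e => ?_
  · show s (s (s i)) = i
    rw [h.s_eq, h.s_eq, h.s_eq]
    revert i; decide
  · have := h.s_eq 1
    rw [e, Perm.one_apply] at this
    revert this; decide

theorem card_eq (h : Seven A s) :
    Nat.card A = 7 * Nat.card (MulAction.stabilizer A (0 : Fin 7)) := by
  have : MulAction.IsPretransitive A (Fin 7) := ⟨fun i j => by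
    obtain ⟨a, ha, e⟩ := h.trans i
    obtain ⟨b, hb, e'⟩ := h.trans j
    refine ⟨⟨b * a⁻¹, mul_mem hb (inv_mem ha)⟩, ?_⟩
    show b (a⁻¹ i) = j
    rw [← e, ← Perm.mul_apply a⁻¹ a, inv_mul_cancel, Perm.one_apply, e']⟩
  have hidx := MulAction.index_stabilizer_of_transitive A (0 : Fin 7)
  rw [← Subgroup.card_mul_index (MulAction.stabilizer A (0 : Fin 7)), hidx, Nat.card_fin, mul_comm]

theorem stab_le_six (h : Seven A s) :
    Nat.card (MulAction.stabilizer A (0 : Fin 7)) ≤ 6 := by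
  let T : Finset (Fin 7 × Fin 7) := Finset.univ.filter fun p =>
    p.1 ≠ p.2 ∧ (p.1 = 1 ∨ p.1 = 2 ∨ p.1 = 3) ∧ (p.2 = 1 ∨ p.2 = 2 ∨ p.2 = 3)
  have hT : T.card = 6 := by decide
  let f : MulAction.stabilizer A (0 : Fin 7) → T := fun a =>
    ⟨((a.1 : Perm (Fin 7)) 1, (a.1 : Perm (Fin 7)) 2), by
      have h0 : (a.1 : Perm (Fin 7)) 0 = 0 := a.2
      simp only [T, Finset.mem_filter, Finset.mem_univ, true_and]
      exact ⟨fun e => absurd ((a.1 : Perm (Fin 7)).injective e) (by decide),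
        h.three _ a.1.2 h0 1 (by simp), h.three _ a.1.2 h0 2 (by simp)⟩⟩
  have hf : Function.Injective f := by
    intro a b e
    simp only [f, Subtype.mk.injEq, Prod.mk.injEq] at e
    have ha : (a.1 : Perm (Fin 7)) 0 = 0 := a.2
    have hb : (b.1 : Perm (Fin 7)) 0 = 0 := b.2
    have := h.det _ (A.mul_mem (A.inv_mem b.1.2) a.1.2)
      (by rw [Perm.mul_apply, ha, Perm.inv_eq_iff_eq, hb])
      (by rw [Perm.mul_apply, e.1, Perm.inv_eq_iff_eq])
      (by rw [Perm.mul_apply, e.2, Perm.inv_eq_iff_eq])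
    exact Subtype.ext (Subtype.ext ((inv_mul_eq_one.1 this).symm))
  calc Nat.card (MulAction.stabilizer A (0 : Fin 7)) ≤ Nat.card T := Nat.card_le_card_of_injective f hf
    _ = 6 := by rw [Nat.card_eq_finsetCard, hT]

/-- The normal subgroup of order seven, regular on the points. -/
theorem exists_regular (h : Seven A s) :
    ∃ P : Subgroup A, P.Normal ∧ Nat.card P = 7 ∧
      (∀ p ∈ P, (p : Perm (Fin 7)) 0 = 0 → p = 1) ∧
      ∀ i, ∃ p ∈ P, (p : Perm (Fin 7)) 0 = i := by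
  classical
  have : Fact (Nat.Prime 7) := ⟨by norm_num⟩
  set m := Nat.card (MulAction.stabilizer A (0 : Fin 7))
  have hm6 : m ≤ 6 := h.stab_le_six
  have hm0 : 0 < m := Nat.card_pos
  have hA : Nat.card A = 7 * m := h.card_eq
  have hcop : ¬ 7 ∣ m := fun hd => by have := Nat.le_of_dvd hm0 hd; omega
  let P : Sylow 7 A := default
  have hP : Nat.card P = 7 := by
    rw [P.card_eq_multiplicity, hA, Nat.factorization_mul (by norm_num) hm0.ne',
      Finsupp.add_apply, Nat.Prime.factorization_self (by norm_num),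
      Nat.factorization_eq_zero_of_not_dvd hcop]
    rfl
  have hidx : (P : Subgroup A).index = m := by
    have := Subgroup.card_mul_index (P : Subgroup A)
    rw [hA, hP] at this
    omega
  have hn : Nat.card (Sylow 7 A) = 1 := by
    have h1 := card_sylow_modEq_one 7 A
    have h2 : Nat.card (Sylow 7 A) ≤ m := hidx ▸
      Nat.le_of_dvd (hidx.symm ▸ hm0) P.card_dvd_index
    unfold Nat.ModEq at h1
    omega
  have : Subsingleton (Sylow 7 A) := (Nat.card_eq_one_iff_unique.1 hn).1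
  have hfree : ∀ p ∈ (P : Subgroup A), (p : Perm (Fin 7)) 0 = 0 → p = 1 := by
    intro p hp h0
    have h7 : orderOf p ∣ 7 := (Subgroup.orderOf_dvd_natCard _ hp).trans hP.dvd
    have hm : orderOf p ∣ m :=
      Subgroup.orderOf_dvd_natCard (MulAction.stabilizer A (0 : Fin 7))
        (show p ∈ MulAction.stabilizer A (0 : Fin 7) from h0)
    rcases (Nat.dvd_prime (by norm_num)).1 h7 with e | e
    · exact orderOf_eq_one_iff.1 e
    · exact absurd (e ▸ hm) hcop
  refine ⟨P, P.normal_of_subsingleton, hP, hfree, fun i => ?_⟩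
  let f : ↥(P : Subgroup A) → Fin 7 := fun p => ((p : A) : Perm (Fin 7)) 0
  have hf : Function.Injective f := by
    intro a b e
    have := hfree _ (mul_mem (inv_mem b.2) a.2) (by
      show ((b : A) : Perm (Fin 7))⁻¹ (((a : A) : Perm (Fin 7)) 0) = 0
      rw [Perm.inv_eq_iff_eq]; exact e)
    exact Subtype.ext ((inv_mul_eq_one.1 this).symm)
  obtain ⟨p, hp⟩ := (hf.bijective_of_nat_card_le (by rw [Nat.card_fin, hP])).2 i
  exact ⟨p, p.2, hp⟩

theorem free (h : Seven A s) {a : Perm (Fin 7)} (ha : a ∈ A) (h0 : a 0 = 0) {i : Fin 7}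
    (hi : i ≠ 0) (hai : a i = i) : a = 1 := by
  classical
  obtain ⟨P, hN, hP, hfree, hreg⟩ := h.exists_regular
  have : Fact (Nat.Prime 7) := ⟨by norm_num⟩
  obtain ⟨p, hp, hpi⟩ := hreg i
  have hp1 : p ≠ 1 := by
    rintro rfl
    exact hi hpi.symm
  have hq := hN.conj_mem p hp ⟨a, ha⟩
  have hfix : (⟨a, ha⟩ * p * (⟨a, ha⟩ : A)⁻¹ : A) = p := by
    refine (inv_mul_eq_one.1 (hfree _ (mul_mem (inv_mem hp) hq) ?_)).symm
    show ((p : Perm (Fin 7))⁻¹ * (a * (p : Perm (Fin 7)) * a⁻¹)) 0 = 0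
    rw [Perm.mul_apply, Perm.mul_apply, Perm.mul_apply, Perm.inv_eq_iff_eq.2 h0.symm, hpi, hai,
      Perm.inv_eq_iff_eq, hpi]
  have hcomm : Commute (⟨a, ha⟩ : A) p := mul_inv_eq_iff_eq_mul.1 hfix
  refine Perm.ext fun j => ?_
  obtain ⟨q, hq, hqj⟩ := hreg j
  obtain ⟨k, hk⟩ := Subgroup.mem_zpowers_iff.1
    (mem_zpowers_of_prime_card hP (g := (⟨p, hp⟩ : P)) (g' := ⟨q, hq⟩)
      (fun e => hp1 (Subtype.ext_iff.1 e)))
  have hc : Commute (⟨a, ha⟩ : A) q := by
    have hqk : q = p ^ k := by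
      have := congrArg Subtype.val hk
      simpa using this.symm
    rw [hqk]
    exact hcomm.zpow_right k
  have := congrArg (fun b : A => (b : Perm (Fin 7)) 0) hc.eq
  simp only [Subgroup.coe_mul, Perm.mul_apply, h0, hqj] at this
  rw [Perm.one_apply]
  exact this

theorem stab_le_three (h : Seven A s) :
    Nat.card (MulAction.stabilizer A (0 : Fin 7)) ≤ 3 := by
  let T : Finset (Fin 7) := Finset.univ.filter fun p => p = 1 ∨ p = 2 ∨ p = 3
  have hT : T.card = 3 := by decide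
  let f : MulAction.stabilizer A (0 : Fin 7) → T := fun a =>
    ⟨(a.1 : Perm (Fin 7)) 1, by
      simp only [T, Finset.mem_filter, Finset.mem_univ, true_and]
      exact h.three _ a.1.2 a.2 1 (by simp)⟩
  have hf : Function.Injective f := by
    intro a b e
    simp only [f, Subtype.mk.injEq] at e
    have ha : (a.1 : Perm (Fin 7)) 0 = 0 := a.2
    have hb : (b.1 : Perm (Fin 7)) 0 = 0 := b.2
    have := h.free (A.mul_mem (A.inv_mem b.1.2) a.1.2)
      (by rw [Perm.mul_apply, ha, Perm.inv_eq_iff_eq, hb]) (i := 1) (by decide)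
      (by rw [Perm.mul_apply, e, Perm.inv_eq_iff_eq])
    exact Subtype.ext (Subtype.ext ((inv_mul_eq_one.1 this).symm))
  calc Nat.card (MulAction.stabilizer A (0 : Fin 7)) ≤ Nat.card T := Nat.card_le_card_of_injective f hf
    _ = 3 := by rw [Nat.card_eq_finsetCard, hT]

theorem stab_eq (h : Seven A s) :
    MulAction.stabilizer A (0 : Fin 7) = Subgroup.zpowers (⟨s, h.mem⟩ : A) := by
  refine (Subgroup.eq_of_le_of_card_ge (Subgroup.zpowers_le.2 h.s_zero) ?_).symm
  rw [Nat.card_zpowers, Subgroup.orderOf_mk, h.s_order]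
  exact h.stab_le_three

theorem stab_power (h : Seven A s) {a : Perm (Fin 7)} (ha : a ∈ A) (h0 : a 0 = 0) :
    ∃ k : ℕ, a = s ^ k := by
  have hm : (⟨a, ha⟩ : A) ∈ Subgroup.zpowers (⟨s, h.mem⟩ : A) :=
    h.stab_eq ▸ (show (⟨a, ha⟩ : A) ∈ MulAction.stabilizer A (0 : Fin 7) from h0)
  obtain ⟨k, hk⟩ := ((isOfFinOrder_of_finite _).mem_powers_iff_mem_zpowers.2 hm)
  exact ⟨k, by simpa using (congrArg Subtype.val hk).symm⟩

theorem card_twentyone (h : Seven A s) : Nat.card A = 21 := by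
  rw [h.card_eq, h.stab_eq, Nat.card_zpowers, Subgroup.orderOf_mk, h.s_order]

theorem two_element (h : Seven A s) {a : Perm (Fin 7)} (ha : a ∈ A) {k : ℕ}
    (hk : a ^ 2 ^ k = 1) : a = 1 := by
  have h1 : orderOf a ∣ 2 ^ k := orderOf_dvd_of_pow_eq_one hk
  have h2 : orderOf a ∣ 21 := h.card_twentyone ▸ Subgroup.orderOf_dvd_natCard A ha
  exact orderOf_eq_one_iff.1
    (Nat.eq_one_of_dvd_coprimes (Nat.Coprime.pow_left k (by norm_num : Nat.Coprime 2 21)) h1 h2)

/-- The commutator of a moving element with `s` generates the regular subgroup. -/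
theorem commutator_props (h : Seven A s) {a : Perm (Fin 7)} (ha : a ∈ A) (h0 : a 0 ≠ 0) :
    (∀ i, (a * s * a⁻¹ * s⁻¹) i ≠ i) ∧ (∀ i, ∃ k : ℕ, ((a * s * a⁻¹ * s⁻¹) ^ k) 0 = i) ∧
      ∃ k : ℕ, s⁻¹ * (a * s * a⁻¹ * s⁻¹) * s = (a * s * a⁻¹ * s⁻¹) ^ k := by
  classical
  have : Fact (Nat.Prime 7) := ⟨by norm_num⟩
  obtain ⟨P, hN, hP, hfree, hreg⟩ := h.exists_regular
  obtain ⟨p, hp, hpa⟩ := hreg (a 0)
  have hb : (p : Perm (Fin 7))⁻¹ * a ∈ A := mul_mem (inv_mem p.2) ha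
  obtain ⟨j, hj⟩ := h.stab_power hb (by rw [Perm.mul_apply, Perm.inv_eq_iff_eq, hpa])
  set σ : A := ⟨s, h.mem⟩
  have haA : (⟨a, ha⟩ : A) = p * σ ^ j := by
    refine Subtype.ext ?_
    show a = (p : Perm (Fin 7)) * s ^ j
    rw [← hj, mul_inv_cancel_left]
  set c : A := ⟨a, ha⟩ * σ * (⟨a, ha⟩ : A)⁻¹ * σ⁻¹ with hc
  have hcval : (c : Perm (Fin 7)) = a * s * a⁻¹ * s⁻¹ := by simp [hc, σ]
  have hcP : c ∈ P := by
    have : c = p * (σ * p⁻¹ * σ⁻¹) := by
      rw [hc, haA, mul_inv_rev]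
      group
    rw [this]
    exact mul_mem hp (hN.conj_mem _ (inv_mem hp) σ)
  have hc1 : c ≠ 1 := by
    intro e
    have e' : a * s * a⁻¹ * s⁻¹ = 1 := hcval ▸ congrArg Subtype.val e
    rw [mul_inv_eq_one, mul_inv_eq_iff_eq_mul] at e'
    have := congrArg (fun b : Perm (Fin 7) => b 0) e'
    simp only [Perm.mul_apply, h.s_zero] at this
    exact h0 (sig_fix _ ((h.s_eq _).symm.trans this.symm))
  have hall : ∀ q ∈ P, ∃ k : ℕ, q = c ^ k := by
    intro q hq
    obtain ⟨k, hk⟩ := Submonoid.mem_powers_iff _ _ |>.1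
      (mem_powers_of_prime_card hP (g := (⟨c, hcP⟩ : P)) (g' := ⟨q, hq⟩)
        (fun e => hc1 (Subtype.ext_iff.1 e)))
    exact ⟨k, by simpa using (congrArg Subtype.val hk).symm⟩
  rw [← hcval]
  refine ⟨fun i e => ?_, fun i => ?_, ?_⟩
  · obtain ⟨q, hq, hqi⟩ := hreg i
    obtain ⟨k, hk⟩ := hall q hq
    apply hc1
    refine hfree c hcP ?_
    have hqi' : ((c : Perm (Fin 7)) ^ k) 0 = i := by rw [← hqi, hk]; simp
    apply ((c : Perm (Fin 7)) ^ k).injective
    rw [← Perm.mul_apply, ((Commute.refl (c : Perm (Fin 7))).pow_left k).eq, Perm.mul_apply, hqi']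
    exact e
  · obtain ⟨q, hq, hqi⟩ := hreg i
    obtain ⟨k, hk⟩ := hall q hq
    exact ⟨k, by rw [← hqi, hk]; simp⟩
  · obtain ⟨k, hk⟩ := hall (σ⁻¹ * c * σ) (by simpa using hN.conj_mem c hcP σ⁻¹)
    exact ⟨k, by simpa [σ] using congrArg Subtype.val hk⟩

end Seven

end CfsgLib.J1Weak
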