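import Cfsg.Agent.J1Weak.Setup
import Cfsg.Agent.J1Weak.Seven

/-!
# The centralisers of `E` and of `t`
-/

set_option autoImplicit false
set_option linter.style.haveILetI false
set_option linter.unusedSectionVars false

namespace CfsgLib.J1Weak

universe u

variable {G : Type u} [Group G]

namespace Setup

variable (D : Setup G)

/-- The centraliser of `E`. -/
abbrev CE : Subgroup G := Subgroup.centralizer (D.E : Set G)

theorem mem_CE {g : G} : g ∈ D.CE ↔ ∀ y ∈ D.E, g * y = y * g := by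
  rw [Subgroup.mem_centralizer_iff]
  exact ⟨fun h y hy => (h y hy).symm, fun h y hy => (h y hy).symm⟩

theorem mem_R {g : G} : g ∈ D.R ↔ ∀ m : M, g * D.ι m = D.ι m * g := by
  rw [Subgroup.mem_centralizer_iff]
  refine ⟨fun h m => (h _ (D.ι_mem m)).symm, fun h y hy => ?_⟩
  obtain ⟨m, rfl⟩ := D.exists_ι hy
  exact (h m).symm

theorem R_le_CE : D.R ≤ D.CE := fun g hg => D.mem_CE.2 fun y hy => by
  obtain ⟨m, -, rfl⟩ := hy
  exact D.mem_R.1 hg m

theorem CE_commute_t {g : G} (hg : g ∈ D.CE) : g * D.t = D.t * g :=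
  D.mem_CE.1 hg _ D.t_mem_E

theorem E_le_CE : D.E ≤ D.CE := fun _ ha => D.mem_CE.2 fun _ hy => D.E_comm ha hy

theorem R_conj_ι {r : G} (hr : r ∈ D.R) (m : M) : r * D.ι m * r⁻¹ = D.ι m :=
  conj_fix (D.mem_R.1 hr m)

variable [Finite G]

theorem CE_le_N : D.CE ≤ D.N := fun g hg => D.mem_N fun y hy => by
  rw [conj_fix (D.mem_CE.1 hg y hy)]; exact hy

theorem exists_img (n : D.N) (i : Fin 7) : ∃ j, (n : G) * D.pt i * (n : G)⁻¹ = D.pt j :=
  (D.mem_E_cases (D.N_conj n.2 (D.pt_mem i))).resolve_left fun h =>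
    D.pt_ne_one i (conj_eq_one_iff.1 h)

/-- The index of the conjugate of a point. -/
noncomputable def img (n : D.N) (i : Fin 7) : Fin 7 := (D.exists_img n i).choose

theorem img_spec (n : D.N) (i : Fin 7) :
    (n : G) * D.pt i * (n : G)⁻¹ = D.pt (D.img n i) := (D.exists_img n i).choose_spec

/-- The action of the normalizer on the seven points. -/
noncomputable def perm : D.N →* Equiv.Perm (Fin 7) where
  toFun n :=
    { toFun := D.img n
      invFun := D.img n⁻¹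
      left_inv := fun i => D.pt_injective (by
        rw [← img_spec, ← img_spec, Subgroup.coe_inv]; group)
      right_inv := fun i => D.pt_injective (by
        rw [← img_spec, ← img_spec, Subgroup.coe_inv]; group) }
  map_one' := Equiv.ext fun i => D.pt_injective (by
    show D.pt (D.img 1 i) = D.pt i
    rw [← img_spec, Subgroup.coe_one, one_mul, inv_one, mul_one])
  map_mul' a b := Equiv.ext fun i => D.pt_injective (by
    show D.pt (D.img (a * b) i) = D.pt (D.img a (D.img b i))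
    rw [← img_spec, ← img_spec, ← img_spec, Subgroup.coe_mul]
    group)

theorem perm_spec (n : D.N) (i : Fin 7) :
    D.pt (D.perm n i) = (n : G) * D.pt i * (n : G)⁻¹ := (D.img_spec n i).symm

theorem perm_eq_iff (n : D.N) (i j : Fin 7) :
    D.perm n i = j ↔ (n : G) * D.pt i * (n : G)⁻¹ = D.pt j :=
  ⟨fun h => by rw [← perm_spec, h], fun h => D.pt_injective ((D.perm_spec n i).trans h)⟩

theorem perm_zero_iff (n : D.N) : D.perm n 0 = 0 ↔ (n : G) * D.t = D.t * (n : G) := by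
  rw [perm_eq_iff, pt_zero]
  exact ⟨fix_conj, conj_fix⟩

theorem perm_one_iff (n : D.N) : D.perm n = 1 ↔ (n : G) ∈ D.CE := by
  constructor
  · intro h
    refine D.mem_CE.2 fun y hy => ?_
    rcases D.mem_E_cases hy with rfl | ⟨i, rfl⟩
    · simp
    · exact fix_conj (by rw [← perm_spec, h, Equiv.Perm.one_apply])
  · intro h
    exact Equiv.ext fun i => (D.perm_eq_iff n i i).2 (conj_fix (D.mem_CE.1 h _ (D.pt_mem i)))

/-- The element of order three in the normalizer. -/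
abbrev xN : D.N := ⟨D.x, D.x_mem_N⟩

theorem perm_x (i : Fin 7) : D.perm D.xN i = sig i := (D.perm_eq_iff _ _ _).2 (D.x_pt i)

theorem exists_move_all (i : Fin 7) : ∃ n : D.N, D.perm n 0 = i := by
  classical
  have : Fact (Nat.Prime 2) := ⟨Nat.prime_two⟩
  let p : Fin 7 → Bool := fun i => decide (∃ n : D.N, D.perm n 0 = i)
  suffices h : ∀ i, p i = true by simpa [p] using h i
  refine parity p (decide_eq_true ⟨1, by rw [map_one, Equiv.Perm.one_apply]⟩) (fun j hj => ?_) ?_ ?_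
  · obtain ⟨n, rfl⟩ := of_decide_eq_true hj
    exact decide_eq_true ⟨D.xN * n, by rw [map_mul, Equiv.Perm.mul_apply, perm_x]⟩
  · letI : MulAction D.N (Fin 7) := MulAction.compHom (Fin 7) D.perm
    have hidx := MulAction.index_stabilizer D.N (0 : Fin 7)
    have hset : MulAction.orbit D.N (0 : Fin 7) =
        (↑(Finset.univ.filter fun i => p i = true) : Set (Fin 7)) := by
      ext j
      simp only [MulAction.mem_orbit_iff, Finset.coe_filter, Finset.mem_univ, true_and,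
        Set.mem_ofPred_eq, p, decide_eq_true_eq]
      rfl
    rw [hset, Set.ncard_coe_finset] at hidx
    have hle : (D.S.subtype D.S_le_N : Subgroup D.N) ≤ MulAction.stabilizer D.N (0 : Fin 7) := by
      intro n hn
      exact (D.perm_zero_iff n).2 (D.hSc _ hn)
    have hodd : ¬ 2 ∣ (MulAction.stabilizer D.N (0 : Fin 7)).index := fun hd =>
      (D.S.subtype D.S_le_N).not_dvd_index (hd.trans (Subgroup.index_dvd_of_le hle))
    rw [hidx] at hodd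
    exact Nat.two_dvd_ne_zero.1 hodd
  · obtain ⟨j, hj0, hj⟩ := D.exists_ne_zero
    obtain ⟨n, hn, hnt⟩ := D.exists_N_move hj (D.pt_mem j)
    exact ⟨j, hj0, decide_eq_true ⟨⟨n, hn⟩, (D.perm_eq_iff _ _ _).2 (by rw [pt_zero]; exact hnt)⟩⟩

theorem isD_pt (i : Fin 7) : D.IsD (D.pt i) := by
  obtain ⟨n, hn⟩ := D.exists_move_all i
  exact ⟨n, by rw [← hn, perm_spec, pt_zero]⟩

theorem isD_of_mem_E {y : G} (hy : y ∈ D.E) (h1 : y ≠ 1) : D.IsD y := by
  obtain ⟨i, rfl⟩ := (D.mem_E_cases hy).resolve_left h1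
  exact D.isD_pt i

theorem exists_conj_into_E {y : G} (hy : y ∈ D.W) (h2 : y * y = 1) :
    ∃ w ∈ D.W, w * y * w⁻¹ ∈ D.E := by
  obtain ⟨m, rfl⟩ := D.exists_ι hy
  obtain ⟨w, hw⟩ := invol_conj m (D.ι_inj (by rw [map_mul, map_one]; exact h2))
  exact ⟨D.ι w, D.ι_mem w, w * m * w⁻¹, hw, by rw [map_mul, map_mul, map_inv]⟩

/-- All involutions of the weak closure are conjugates of `t`. -/
theorem isD_of_mem_W {y : G} (hy : y ∈ D.W) (h2 : y * y = 1) (h1 : y ≠ 1) : D.IsD y := by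
  obtain ⟨w, -, hw⟩ := D.exists_conj_into_E hy h2
  have h := (D.isD_of_mem_E hw fun e => h1 (conj_eq_one_iff.1 e)).conj w⁻¹
  rwa [show w⁻¹ * (w * y * w⁻¹) * w⁻¹⁻¹ = y by group] at h

theorem seven : Seven D.perm.range (D.perm D.xN) where
  trans i := by
    obtain ⟨n, hn⟩ := D.exists_move_all i
    exact ⟨_, ⟨n, rfl⟩, hn⟩
  mem := ⟨_, rfl⟩
  s_eq := D.perm_x
  three := by
    rintro _ ⟨n, rfl⟩ h0 i hi
    obtain ⟨a, b, hab⟩ := pts_commutator i hi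
    have hnt := (D.perm_zero_iff n).1 h0
    obtain ⟨a', ha'⟩ := D.exists_ι (D.conj_mem_W hnt (D.ι_mem a))
    obtain ⟨b', hb'⟩ := D.exists_ι (D.conj_mem_W hnt (D.ι_mem b))
    have h : D.ι (pts (D.perm n i)) = D.ι (a' * b' * a'⁻¹ * b'⁻¹) := by
      show D.pt (D.perm n i) = _
      rw [perm_spec, pt, hab]
      simp only [map_mul, map_inv, ha', hb']
      group
    exact fst_one_cases _ (by rw [D.ι_inj h]; exact commutator_fst a' b')
  det := by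
    rintro _ ⟨n, rfl⟩ h0 h1 h2
    have e0 := (D.perm_eq_iff n 0 0).1 h0
    have e1 := (D.perm_eq_iff n 1 1).1 h1
    have e2 := (D.perm_eq_iff n 2 2).1 h2
    refine (D.perm_one_iff n).2 (D.mem_CE.2 fun y hy => ?_)
    obtain ⟨m, hm, rfl⟩ := hy
    have hz : (n : G) * D.ι z = D.ι z * (n : G) := by
      rw [D.ι_z]; exact fix_conj (by rwa [pt_zero] at e0)
    have hv1 : Commute (n : G) (D.ι v1) := fix_conj e1
    have hv2 : Commute (n : G) (D.ι v2) := fix_conj e2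
    have hz' : Commute (n : G) (D.ι z) := hz
    rcases (mem_E0_iff m).1 hm with rfl | ⟨i, rfl⟩
    · simp
    have hp : pts i ∈ ({z, v1, v2, v1 * v2, z * v1, z * v2, z * (v1 * v2)} : Set M) := by
      fin_cases i <;> simp [pts]
    simp only [Set.mem_insert_iff, Set.mem_singleton_iff] at hp
    show Commute (n : G) _
    rcases hp with e | e | e | e | e | e | e <;> rw [e] <;> (try simp only [map_mul]) <;>
      first
        | exact hz' | exact hv1 | exact hv2 | exact hv1.mul_right hv2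
        | exact hz'.mul_right hv1 | exact hz'.mul_right hv2
        | exact hz'.mul_right (hv1.mul_right hv2)

theorem fix_t_decomp {n : G} (hn : n ∈ D.N) (ht : n * D.t = D.t * n) :
    ∃ k : ℕ, (D.x ^ k)⁻¹ * n ∈ D.CE := by
  obtain ⟨k, hk⟩ := D.seven.stab_power ⟨⟨n, hn⟩, rfl⟩ ((D.perm_zero_iff ⟨n, hn⟩).2 ht)
  refine ⟨k, (D.perm_one_iff ((D.xN ^ k)⁻¹ * ⟨n, hn⟩)).1 ?_⟩
  rw [map_mul, map_inv, map_pow, hk, inv_mul_cancel]

theorem two_CE {n : G} (hn : n ∈ D.N) {k : ℕ} (hk : n ^ 2 ^ k = 1) : n ∈ D.CE := by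
  refine (D.perm_one_iff ⟨n, hn⟩).1 (D.seven.two_element ⟨_, rfl⟩ (k := k) ?_)
  rw [← map_pow, show (⟨n, hn⟩ : D.N) ^ 2 ^ k = 1 from Subtype.ext hk, map_one]

theorem S_le_CE : (D.S : Subgroup G) ≤ D.CE := fun s hs => by
  obtain ⟨k, hk⟩ := D.S.2 ⟨s, hs⟩
  exact D.two_CE (D.S_le_N hs) (congrArg Subtype.val hk)

/-- Conjugation by an element centralising `t`, on the model. -/
noncomputable def conjM {c : G} (hc : c * D.t = D.t * c) : M →* M where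
  toFun m := (D.exists_ι (D.conj_mem_W hc (D.ι_mem m))).choose
  map_one' := D.ι_inj (by
    rw [(D.exists_ι (D.conj_mem_W hc (D.ι_mem 1))).choose_spec, map_one]; group)
  map_mul' a b := D.ι_inj (by
    rw [(D.exists_ι (D.conj_mem_W hc (D.ι_mem (a * b)))).choose_spec, map_mul, map_mul,
      (D.exists_ι (D.conj_mem_W hc (D.ι_mem a))).choose_spec,
      (D.exists_ι (D.conj_mem_W hc (D.ι_mem b))).choose_spec]
    group)

theorem conjM_spec {c : G} (hc : c * D.t = D.t * c) (m : M) :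
    D.ι (D.conjM hc m) = c * D.ι m * c⁻¹ :=
  (D.exists_ι (D.conj_mem_W hc (D.ι_mem m))).choose_spec

/-- `C(E) = E C(W)`. -/
theorem CE_decomp {g : G} (hg : g ∈ D.CE) : ∃ m ∈ E0, ∃ r ∈ D.R, g = D.ι m * r := by
  have hc := D.CE_commute_t hg
  set θ := D.conjM hc
  have hfix : ∀ m ∈ E0, θ m = m := fun m hm => D.ι_inj (by
    rw [conjM_spec, conj_fix (D.mem_CE.1 hg _ ⟨m, hm, rfl⟩)])
  obtain ⟨r1, r2, r3, r4, r5⟩ := g5_rels
  obtain ⟨v, hv, hvy⟩ := rigid (θ g5) (by rw [← map_pow, r1, map_one])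
    (by rw [← hfix v1 v_mem.1, ← map_mul, ← map_pow, r2, map_one])
    (by rw [← hfix v2 v_mem.2.1, ← map_mul, ← map_pow, r3, map_one])
    (by rw [← hfix _ v_mem.2.2, ← map_mul, ← map_pow, r4, map_one])
    (fun e => r5 (D.ι_inj (by
      have := congrArg D.ι e
      rw [conjM_spec, map_one] at this
      rw [map_one]; exact conj_eq_one_iff.1 this)))
  set r := (D.ι v)⁻¹ * g with hr
  refine ⟨v, hv, r, ?_, by rw [hr, mul_inv_cancel_left]⟩
  refine D.mem_R.2 fun m => ?_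
  have htop : (cent r).comap D.ι = ⊤ := by
    refine eq_top_of_gens ?_ fun a ha => ?_
    · show D.ι g5 ∈ cent r
      have h5 := congrArg D.ι hvy
      rw [map_mul, map_mul, map_inv, conjM_spec] at h5
      refine mem_cent.2 (fix_conj (a := D.ι g5) (g := r) ?_).symm
      rw [hr, show (D.ι v)⁻¹ * g * D.ι g5 * ((D.ι v)⁻¹ * g)⁻¹
        = (D.ι v)⁻¹ * (g * D.ι g5 * g⁻¹) * D.ι v by group, ← h5]
      group
    · show D.ι a ∈ cent r
      have hm : r ∈ D.CE := mul_mem (inv_mem (D.E_le_CE ⟨v, hv, rfl⟩)) hg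
      exact mem_cent.2 (D.mem_CE.1 hm _ ⟨a, ha, rfl⟩).symm
  exact (mem_cent.1 (show m ∈ (cent r).comap D.ι from htop ▸ Subgroup.mem_top m)).symm

/-- `C(t) = W C(W)`. -/
theorem cent_decomp {c : G} (hc : c * D.t = D.t * c) : ∃ m, ∃ r ∈ D.R, c = D.ι m * r := by
  set θ := D.conjM hc
  have hθ : Function.Injective θ := fun a b e => D.ι_inj (by
    have := congrArg D.ι e
    rw [conjM_spec, conjM_spec] at this
    exact mul_left_cancel (mul_right_cancel this))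
  obtain ⟨w, hw⟩ := exists_conj_E0 (E0.map θ)
    ((Subgroup.card_map_of_injective hθ).trans card_E0)
  set n := c⁻¹ * D.ι w with hn
  have hnN : n ∈ D.N := D.mem_N fun y hy => by
    obtain ⟨m, hm, rfl⟩ := hy
    obtain ⟨a, ha, hae⟩ := (hw m).1 hm
    refine ⟨a, ha, ?_⟩
    have := congrArg D.ι hae
    rw [conjM_spec, map_mul, map_mul, map_inv] at this
    rw [hn, show c⁻¹ * D.ι w * D.ι m * (c⁻¹ * D.ι w)⁻¹
      = c⁻¹ * (D.ι w * D.ι m * (D.ι w)⁻¹) * c by group, ← this]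
    group
  have hnt : n * D.t = D.t * n :=
    (Commute.mul_left (Commute.inv_left hc) (D.ι_commute_t w)).eq
  obtain ⟨k, hk⟩ := D.fix_t_decomp hnN hnt
  obtain ⟨m, -, r, hr, hmr⟩ := D.CE_decomp hk
  refine ⟨w * m⁻¹ * (x0 ^ k)⁻¹, r⁻¹, inv_mem hr, ?_⟩
  have hcn : c = D.ι w * n⁻¹ := by rw [hn]; group
  have hn' : n = D.x ^ k * (D.ι m * r) := by rw [← hmr, mul_inv_cancel_left]
  have hcomm : Commute r⁻¹ (D.ι (m⁻¹ * (x0 ^ k)⁻¹)) := D.mem_R.1 (inv_mem hr) _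
  rw [hcn, hn', mul_inv_rev, mul_inv_rev, mul_assoc w, map_mul D.ι w, mul_assoc (D.ι w) _ r⁻¹,
    ← hcomm.eq]
  simp only [map_mul, map_inv, map_pow, x, mul_assoc]

end Setup

/-- An element of the normalizer of `E` moving `t`. -/
structure Mover (D : Setup G) where
  n : G
  hn : n ∈ D.N
  hnt : n * D.t ≠ D.t * n

namespace Mover

variable {D : Setup G} (μ : Mover D)

/-- The element acting regularly on the points. -/
def h : G := μ.n * D.x * μ.n⁻¹ * D.x⁻¹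

/-- The complement of `W` in the centraliser of `t`. -/
def R1 : Subgroup G := D.R ⊓ cent μ.h

variable [Finite G]

theorem h_mem_N : μ.h ∈ D.N :=
  mul_mem (mul_mem (mul_mem μ.hn D.x_mem_N) (inv_mem μ.hn)) (inv_mem D.x_mem_N)

theorem h_props :
    (∀ i, μ.h * D.pt i * μ.h⁻¹ ≠ D.pt i) ∧ (∀ i, ∃ k : ℕ, μ.h ^ k * D.t * (μ.h ^ k)⁻¹ = D.pt i) ∧
      ∃ k : ℕ, (μ.h ^ k)⁻¹ * (D.x⁻¹ * μ.h * D.x) ∈ D.CE := by
  set a := D.perm ⟨μ.n, μ.hn⟩
  obtain ⟨h1, h2, k, hk⟩ := D.seven.commutator_props (a := a) ⟨_, rfl⟩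
    (fun e => μ.hnt ((D.perm_zero_iff _).1 e))
  have hperm : D.perm ⟨μ.h, μ.h_mem_N⟩ = a * D.perm D.xN * a⁻¹ * (D.perm D.xN)⁻¹ := by
    rw [← map_inv, ← map_inv, ← map_mul, ← map_mul, ← map_mul]
    rfl
  refine ⟨fun i e => h1 i ?_, fun i => ?_, k, ?_⟩
  · rw [← hperm]; exact (D.perm_eq_iff _ _ _).2 e
  · obtain ⟨k, hk⟩ := h2 i
    rw [← hperm, ← map_pow] at hk
    refine ⟨k, ?_⟩
    have := (D.perm_eq_iff _ _ _).1 hk
    rwa [D.pt_zero] at this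
  · refine (D.perm_one_iff ((⟨μ.h, μ.h_mem_N⟩ ^ k)⁻¹ *
      (D.xN⁻¹ * ⟨μ.h, μ.h_mem_N⟩ * D.xN))).1 ?_
    rw [map_mul, map_mul, map_mul, map_inv, map_inv, map_pow, hperm, hk, inv_mul_cancel]

theorem h_free {y : G} (hy : y ∈ D.E) (he : μ.h * y = y * μ.h) : y = 1 := by
  rcases D.mem_E_cases hy with h | ⟨i, rfl⟩
  · exact h
  · exact absurd (conj_fix he) (μ.h_props.1 i)

theorem h_moves : μ.h * D.t ≠ D.t * μ.h := fun e => by
  have := μ.h_free D.t_mem_E e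
  have h2 := D.ord
  rw [this, orderOf_one] at h2
  omega

theorem h_conj_t : μ.h * D.t * μ.h⁻¹ ∈ D.W ∧ μ.h * D.t * μ.h⁻¹ ≠ D.t :=
  ⟨D.E_le_W (D.N_conj μ.h_mem_N D.t_mem_E), fun e => μ.h_moves (fix_conj e)⟩

theorem exists_orbit {y : G} (hy : y ∈ D.E) (h1 : y ≠ 1) :
    ∃ k : ℕ, μ.h ^ k * D.t * (μ.h ^ k)⁻¹ = y := by
  obtain ⟨i, rfl⟩ := (D.mem_E_cases hy).resolve_left h1
  exact μ.h_props.2.1 i

theorem CE_conj {n g : G} (hn : n ∈ D.N) (hg : g ∈ D.CE) : n * g * n⁻¹ ∈ D.CE := by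
  refine D.mem_CE.2 fun y hy => ?_
  have := conj_commute n (D.mem_CE.1 hg (n⁻¹ * y * n) (by
    simpa using D.N_conj (inv_mem hn) hy))
  rwa [show n * (n⁻¹ * y * n) * n⁻¹ = y by group] at this

theorem x_trivial {g : G} (hg : g ∈ D.CE) :
    D.x * g * D.x⁻¹ * g⁻¹ ∈ D.E ∧ D.x⁻¹ * g * D.x * g⁻¹ ∈ D.E := by
  obtain ⟨m, hm, r, hr, rfl⟩ := D.CE_decomp hg
  have hr' : Commute r D.x := D.mem_R.1 hr x0
  have hE : D.ι m ∈ D.E := ⟨m, hm, rfl⟩
  constructor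
  · rw [show D.x * (D.ι m * r) * D.x⁻¹ * (D.ι m * r)⁻¹
      = D.x * D.ι m * (r * D.x⁻¹ * r⁻¹) * (D.ι m)⁻¹ by group, hr'.inv_right.eq,
      mul_inv_cancel_right]
    exact mul_mem (D.N_conj D.x_mem_N hE) (inv_mem hE)
  · rw [show D.x⁻¹ * (D.ι m * r) * D.x * (D.ι m * r)⁻¹
      = D.x⁻¹ * D.ι m * (r * D.x * r⁻¹) * (D.ι m)⁻¹ by group, hr'.eq, mul_inv_cancel_right]
    exact mul_mem (by simpa using D.N_conj (inv_mem D.x_mem_N) hE) (inv_mem hE)

theorem h_trivial {g : G} (hg : g ∈ D.CE) : μ.h * g * μ.h⁻¹ * g⁻¹ ∈ D.E := by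
  set g1 := D.x⁻¹ * g * D.x with hg1
  have h1 := (x_trivial hg).2
  have hg1m : g1 ∈ D.CE := by simpa [g1] using CE_conj (inv_mem D.x_mem_N) hg
  set g2 := μ.n⁻¹ * g1 * μ.n with hg2
  have hg2m : g2 ∈ D.CE := by simpa [g2] using CE_conj (inv_mem μ.hn) hg1m
  have h2 := (x_trivial hg2m).1
  have e : μ.h * g * μ.h⁻¹ * g⁻¹
      = μ.n * (D.x * g2 * D.x⁻¹ * g2⁻¹) * μ.n⁻¹ * (D.x⁻¹ * g * D.x * g⁻¹) := by
    rw [hg2, hg1, Mover.h]
    group
  rw [e]
  exact mul_mem (D.N_conj μ.hn h2) h1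

theorem comm_surj {y : G} (hy : y ∈ D.E) : ∃ a ∈ D.E, μ.h * a * μ.h⁻¹ * a⁻¹ = y := by
  let f : D.E → D.E := fun a =>
    ⟨μ.h * a * μ.h⁻¹ * (a : G)⁻¹, mul_mem (D.N_conj μ.h_mem_N a.2) (inv_mem a.2)⟩
  have hf : Function.Injective f := by
    intro a b e
    have e' : μ.h * a * μ.h⁻¹ * (a : G)⁻¹ = μ.h * b * μ.h⁻¹ * (b : G)⁻¹ := congrArg Subtype.val e
    have hab : (b : G)⁻¹ * a = 1 := by
      refine μ.h_free (mul_mem (inv_mem b.2) a.2) (fix_conj ?_)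
      calc μ.h * ((b : G)⁻¹ * a) * μ.h⁻¹
          = (μ.h * b * μ.h⁻¹)⁻¹ * (μ.h * a * μ.h⁻¹ * (a : G)⁻¹ * a) := by group
        _ = (μ.h * b * μ.h⁻¹)⁻¹ * (μ.h * b * μ.h⁻¹ * (b : G)⁻¹ * a) := by rw [e']
        _ = (b : G)⁻¹ * a := by group
    exact Subtype.ext (inv_mul_eq_one.1 hab).symm
  obtain ⟨a, ha⟩ := (Finite.injective_iff_surjective.1 hf) ⟨_, hy⟩
  exact ⟨a, a.2, congrArg Subtype.val ha⟩

/-- Every element of `C(E)` is uniquely an element of `E` times one centralising `h`. -/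
theorem exists_fixed {g : G} (hg : g ∈ D.CE) :
    ∃ e ∈ D.E, μ.h * (e⁻¹ * g) = e⁻¹ * g * μ.h := by
  obtain ⟨e, hem, he'⟩ := μ.comm_surj (μ.h_trivial hg)
  refine ⟨e, hem, fix_conj ?_⟩
  calc μ.h * ((e : G)⁻¹ * g) * μ.h⁻¹
      = (μ.h * e * μ.h⁻¹)⁻¹ * (μ.h * g * μ.h⁻¹ * g⁻¹ * g) := by group
    _ = (μ.h * e * μ.h⁻¹)⁻¹ * (μ.h * e * μ.h⁻¹ * (e : G)⁻¹ * g) := by rw [he']
    _ = e⁻¹ * g := by group

theorem x_fixes {f : G} (hf : f ∈ D.CE) (hfix : μ.h * f = f * μ.h) :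
    D.x * f = f * D.x := by
  obtain ⟨-, -, k, hk⟩ := μ.h_props
  set c0 := (μ.h ^ k)⁻¹ * (D.x⁻¹ * μ.h * D.x) with hc0
  obtain ⟨e0, he0, he0f⟩ := μ.exists_fixed hk
  set f0 := e0⁻¹ * c0 with hf0
  have hf0m : f0 ∈ D.CE := mul_mem (inv_mem (D.E_le_CE he0)) hk
  have hff : f0 * f * f0⁻¹ ∈ D.CE := mul_mem (mul_mem hf0m hf) (inv_mem hf0m)
  have hfix' : Commute μ.h (f0 * f * f0⁻¹) :=
    ((Commute.mul_right he0f hfix).mul_right (Commute.inv_right he0f))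
  have hconj : D.x⁻¹ * μ.h * D.x * f * (D.x⁻¹ * μ.h * D.x)⁻¹ = f0 * f * f0⁻¹ := by
    have e1 : D.x⁻¹ * μ.h * D.x = μ.h ^ k * (e0 * f0) := by rw [hf0, hc0]; group
    have e2 : e0 * (f0 * f * f0⁻¹) * e0⁻¹ = f0 * f * f0⁻¹ :=
      conj_fix (D.mem_CE.1 hff e0 he0).symm
    calc D.x⁻¹ * μ.h * D.x * f * (D.x⁻¹ * μ.h * D.x)⁻¹
        = μ.h ^ k * (e0 * (f0 * f * f0⁻¹) * e0⁻¹) * (μ.h ^ k)⁻¹ := by rw [e1]; group
      _ = _ := by rw [e2, conj_fix (hfix'.pow_left k).eq]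
  have hE : f0 * f * f0⁻¹ * f⁻¹ ∈ D.E := by
    rw [← hconj, show D.x⁻¹ * μ.h * D.x * f * (D.x⁻¹ * μ.h * D.x)⁻¹ * f⁻¹
      = D.x⁻¹ * ((μ.h * (D.x * f * D.x⁻¹) * μ.h⁻¹ * (D.x * f * D.x⁻¹)⁻¹) *
          (D.x * f * D.x⁻¹)) * D.x * f⁻¹ by group]
    have hxf : D.x * f * D.x⁻¹ ∈ D.CE := CE_conj D.x_mem_N hf
    have := μ.h_trivial hxf
    rw [show ∀ a b : G, D.x⁻¹ * (a * (D.x * b * D.x⁻¹)) * D.x * b⁻¹ = D.x⁻¹ * a * D.x from
      fun a b => by group]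
    simpa using D.N_conj (inv_mem D.x_mem_N) this
  have h1 : f0 * f * f0⁻¹ * f⁻¹ = 1 :=
    μ.h_free hE (Commute.mul_right hfix' (Commute.inv_right hfix))
  rw [mul_inv_eq_one] at h1
  rw [h1] at hconj
  have h2 := fix_conj hconj
  have h3 : μ.h * (D.x * f * D.x⁻¹) = D.x * f * D.x⁻¹ * μ.h := by
    have := conj_commute D.x h2
    rwa [show D.x * (D.x⁻¹ * μ.h * D.x) * D.x⁻¹ = μ.h by group] at this
  exact fix_conj (mul_inv_eq_one.1
    (μ.h_free (x_trivial hf).1 (Commute.mul_right h3 (Commute.inv_right hfix))))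

theorem R1_le : μ.R1 ≤ D.R := inf_le_left

theorem R1_fix {r : G} (hr : r ∈ μ.R1) : r * μ.h = μ.h * r := mem_cent.1 hr.2

/-- `C(W) = ⟨t⟩ × R1`. -/
theorem R_decomp {r : G} (hr : r ∈ D.R) : r ∈ μ.R1 ∨ D.t * r ∈ μ.R1 := by
  obtain ⟨e, he, hef⟩ := μ.exists_fixed (D.R_le_CE hr)
  have hfm : e⁻¹ * r ∈ D.CE := mul_mem (inv_mem (D.E_le_CE he)) (D.R_le_CE hr)
  have hxr : Commute D.x r := (D.mem_R.1 hr x0).symm
  have hxe : Commute D.x e := by
    have h1 : Commute D.x (r * (e⁻¹ * r)⁻¹) :=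
      hxr.mul_right (Commute.inv_right (μ.x_fixes hfm hef))
    rwa [mul_inv_rev, inv_inv, mul_inv_cancel_left] at h1
  obtain ⟨m, hm, rfl⟩ := he
  have hm' : x0 * m * x0⁻¹ = m := D.ι_inj (by
    rw [map_mul, map_mul, map_inv]; exact conj_fix hxe.eq)
  rcases x0_fix m hm hm' with rfl | rfl
  · left
    rw [map_one, inv_one, one_mul] at hef
    exact ⟨hr, mem_cent.2 hef.symm⟩
  · right
    rw [← map_inv, inv_eq_of_mul_eq_one_right z_props.1, D.ι_z] at hef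
    refine ⟨mul_mem (D.mem_R.2 fun m => ?_) hr, mem_cent.2 hef.symm⟩
    exact (D.ι_commute_t m).symm

/-- `C(t) = W R1`. -/
theorem cent_t {c : G} (hc : c * D.t = D.t * c) : ∃ w ∈ D.W, ∃ r ∈ μ.R1, c = w * r := by
  obtain ⟨m, r, hr, rfl⟩ := D.cent_decomp hc
  rcases μ.R_decomp hr with h | h
  · exact ⟨_, D.ι_mem m, r, h, rfl⟩
  · exact ⟨D.ι m * D.t⁻¹, mul_mem (D.ι_mem m) (inv_mem (D.E_le_W D.t_mem_E)), _, h, by group⟩

theorem R1_inf_W {y : G} (hy : y ∈ μ.R1) (hW : y ∈ D.W) : y = 1 := by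
  obtain ⟨m, rfl⟩ := D.exists_ι hW
  have hc : ∀ a, m * a = a * m := fun a => D.ι_inj (by
    rw [map_mul, map_mul]; exact D.mem_R.1 hy.1 a)
  rcases center_eq m (hc _) (hc _) with rfl | rfl
  · exact map_one _
  · exact absurd (by rw [← D.ι_z]; exact (μ.R1_fix hy).symm) μ.h_moves

include μ in
theorem t_mem_commutator : D.t ∈ commutator G := by
  obtain ⟨a, -, ha⟩ := μ.comm_surj D.t_mem_E
  rw [← ha]
  exact Subgroup.commutator_mem_commutator (Subgroup.mem_top _) (Subgroup.mem_top _)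

end Mover

end CfsgLib.J1Weak
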