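import Cfsg.Agent.J1Orders.Main
import Cfsg.Agent.Coset.J1.Matrix
import Cfsg.Agent.Solvable.Hall
import Mathlib.GroupTheory.SpecificGroups.ZGroup

/-!
# Subgroups of odd order of the first Janko group are small
-/

set_option autoImplicit false
set_option linter.style.haveILetI false

namespace CfsgLib.J1Weak

universe u

/-- A group of order `p q` without the possibility of a nontrivial action has an element of that
order. -/
theorem exists_orderOf_mul_primes {G : Type*} [Group G] [Finite G] {p q : ℕ} (hp : p.Prime)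
    (hq : q.Prime) (hpq : p < q) (hmod : q % p ≠ 1) (hG : Nat.card G = p * q) :
    ∃ g : G, orderOf g = p * q := by
  have : Fact p.Prime := ⟨hp⟩
  have : Fact q.Prime := ⟨hq⟩
  let P : Sylow p G := default
  let Q : Sylow q G := default
  have hcp : Nat.card P = p := by
    rw [P.card_eq_multiplicity, hG, Nat.factorization_mul hp.ne_zero hq.ne_zero, Finsupp.add_apply,
      hp.factorization_self, hq.factorization, Finsupp.single_eq_of_ne hpq.ne]
    simp
  have hcq : Nat.card Q = q := by
    rw [Q.card_eq_multiplicity, hG, Nat.factorization_mul hp.ne_zero hq.ne_zero, Finsupp.add_apply,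
      hq.factorization_self, hp.factorization, Finsupp.single_eq_of_ne hpq.ne']
    simp
  have hPi : (P : Subgroup G).index = q := by
    have := Subgroup.card_mul_index (P : Subgroup G)
    rw [hcp, hG] at this
    exact Nat.eq_of_mul_eq_mul_left hp.pos this
  have hQi : (Q : Subgroup G).index = p := by
    have := Subgroup.card_mul_index (Q : Subgroup G)
    rw [hcq, hG, mul_comm p q] at this
    exact Nat.eq_of_mul_eq_mul_left hq.pos this
  have hQn : Nat.card (Sylow q G) = 1 := by
    have h1 := card_sylow_modEq_one q G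
    rcases (Nat.dvd_prime hp).1 (hQi ▸ Q.card_dvd_index) with h | h
    · exact h
    · rw [h, Nat.ModEq, Nat.mod_eq_of_lt hpq, Nat.one_mod_eq_one.2 hq.ne_one] at h1
      exact absurd h1 hp.ne_one
  have hPn : Nat.card (Sylow p G) = 1 := by
    have h1 := card_sylow_modEq_one p G
    rcases (Nat.dvd_prime hq).1 (hPi ▸ P.card_dvd_index) with h | h
    · exact h
    · rw [h, Nat.ModEq, Nat.one_mod_eq_one.2 hp.ne_one] at h1
      exact absurd h1 hmod
  have : Subsingleton (Sylow p G) := (Nat.card_eq_one_iff_unique.1 hPn).1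
  have : Subsingleton (Sylow q G) := (Nat.card_eq_one_iff_unique.1 hQn).1
  have hd : Disjoint (P : Subgroup G) (Q : Subgroup G) := Subgroup.disjoint_def.2 fun {x} hx hy => by
    rw [← orderOf_eq_one_iff]
    exact Nat.eq_one_of_dvd_coprimes ((Nat.coprime_primes hp hq).2 hpq.ne)
      ((Subgroup.orderOf_dvd_natCard _ hx).trans hcp.dvd)
      ((Subgroup.orderOf_dvd_natCard _ hy).trans hcq.dvd)
  obtain ⟨a, ha⟩ := exists_prime_orderOf_dvd_card' (G := P) p hcp.symm.dvd
  obtain ⟨b, hb⟩ := exists_prime_orderOf_dvd_card' (G := Q) q hcq.symm.dvd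
  rw [← Subgroup.orderOf_coe] at ha hb
  have hc : Commute (a : G) b := Subgroup.commute_of_normal_of_disjoint _ _
    P.normal_of_subsingleton Q.normal_of_subsingleton hd _ _ a.2 b.2
  refine ⟨(a : G) * b, ?_⟩
  rw [hc.orderOf_mul_eq_mul_orderOf_of_coprime
    (by rw [ha, hb]; exact (Nat.coprime_primes hp hq).2 hpq.ne), ha, hb]

theorem big_divisor : ∀ l ∈ Nat.divisors 21945, l < 1463 ∨ 95 ∣ l ∨ 133 ∣ l := by decide +kernel

theorem squarefree_21945 : Squarefree 21945 := by decide +kernel

/-- A subgroup of odd order of `J₁` has order less than `1463`. -/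
theorem odd_lt {Γ : Type u} [Group Γ] [Finite Γ] (e : Γ ≃* Cfsg.Spor.J1) (L : Subgroup Γ)
    (hodd : Odd (Nat.card L)) : Nat.card L < 1463 := by
  by_contra hlt
  have hΓ : Nat.card Γ = 175560 := (Nat.card_congr e.toEquiv).trans Coset.J1.spor_isJ1.2
  have hd : Nat.card L ∣ 8 * 21945 := by
    rw [show 8 * 21945 = 175560 by norm_num, ← hΓ]
    exact L.card_subgroup_dvd_card
  have hd' : Nat.card L ∣ 21945 := by
    refine Nat.Coprime.dvd_of_dvd_mul_left ?_ hd
    rw [show (8 : ℕ) = 2 ^ 3 by norm_num]
    exact Nat.Coprime.pow_right 3 (Nat.coprime_two_right.2 hodd)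
  have hsf : Squarefree (Nat.card L) := Squarefree.squarefree_of_dvd hd' squarefree_21945
  have : IsZGroup L := IsZGroup.of_squarefree hsf
  have key : ∀ a : ℕ, a ∉ [1, 2, 3, 5, 6, 7, 10, 11, 15, 19] → ∀ p q : ℕ, p.Prime → q.Prime →
      p < q → q % p ≠ 1 → a = p * q → a ∣ Nat.card L → False := by
    intro a hmem p q hp hq hpq hmod ha hdvd
    obtain ⟨b, hb⟩ := hdvd
    have hcop : a.Coprime b := Nat.coprime_of_squarefree_mul (hb ▸ hsf)
    obtain ⟨K, hK, -⟩ := Hall.hall (G := L) hb hcop
    obtain ⟨g, hg⟩ := exists_orderOf_mul_primes hp hq hpq hmod (hK.trans ha)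
    apply hmem
    have h := J1Orders.orderOf_mem (g := ((e ((g : L) : Γ) : Cfsg.Spor.J1) : J1Orders.GG)) (e _).2
    rwa [Subgroup.orderOf_coe, MulEquiv.orderOf_eq, Subgroup.orderOf_coe, Subgroup.orderOf_coe,
      hg, ← ha] at h
  rcases big_divisor _ (Nat.mem_divisors.2 ⟨hd', by norm_num⟩) with h | h | h
  · exact hlt h
  · exact key 95 (by decide) 5 19 (by norm_num) (by norm_num) (by norm_num) (by norm_num)
      (by norm_num) h
  · exact key 133 (by decide) 7 19 (by norm_num) (by norm_num) (by norm_num) (by norm_num)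
      (by norm_num) h

end CfsgLib.J1Weak
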