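import Cfsg.Agent.J1Weak.Quotient
import Cfsg.Agent.J1Weak.OddSub
import Cfsg.Agent.Invol.Dihedral

/-!
# A minimal subgroup is normal

Otherwise its normalizer behaves like a point stabiliser in which each conjugate of `t` fixes just one
point, and a two-point stabiliser is too large for a subgroup of odd order of `J₁`.
-/

set_option autoImplicit false
set_option linter.style.haveILetI false
set_option linter.unusedSectionVars false

namespace CfsgLib.J1Weak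

open Subgroup (center)

universe u

variable {G : Type u} [Group G] [Finite G]

/-- The configuration: a minimal subgroup which is not normal. -/
structure Config (D : Setup G) (Γ : Subgroup G) : Prop where
  ih : IH G
  top : Subgroup.normalClosure ({D.t} : Set G) = ⊤
  min : IsMin D.t Γ
  ne : Subgroup.normalizer (Γ : Set G) ≠ ⊤

namespace Config

variable {D : Setup G} {Γ : Subgroup G} (C : Config D Γ)

/-- The normalizer. -/
abbrev H (D : Setup G) (Γ : Subgroup G) : Subgroup G := Subgroup.normalizer (Γ : Set G)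

include C

theorem le_H : Γ ≤ H D Γ := Subgroup.le_normalizer

theorem moves_H : Moves D.t (H D Γ) :=
  ⟨C.min.1.1.trans C.le_H, by obtain ⟨g, hg, h⟩ := C.min.1.2; exact ⟨g, C.le_H hg, h⟩⟩

theorem iso : Cfsg.Spor.IsoJ1 Γ := (D.below C.ih C.ne C.le_H C.min).2.1

theorem center_bot : center G = ⊥ := D.center_eq_bot C.ih C.top C.min C.ne

theorem R1_commute {μ : Mover D} (hμ : μ.n ∈ Γ) {r γ : G} (hr : r ∈ μ.R1) (hγ : γ ∈ Γ) :
    γ * r = r * γ := by
  have hle : Γ ≤ cent r := by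
    rw [← D.min_eq_gen C.min hμ, sup_le_iff, Subgroup.zpowers_le]
    refine ⟨fun w hw => mem_cent.2 ?_, mem_cent.2 (μ.R1_fix hr).symm⟩
    obtain ⟨m, rfl⟩ := D.exists_ι hw
    exact (D.mem_R.1 hr.1 m).symm
  exact mem_cent.1 (hle hγ)

theorem R1_le_H {μ : Mover D} (hμ : μ.n ∈ Γ) : μ.R1 ≤ H D Γ := fun r hr =>
  Subgroup.mem_normalizer_iff.2 fun y => by
    refine ⟨fun hy => ?_, fun hy => ?_⟩
    · rw [← C.R1_commute hμ hr hy, mul_inv_cancel_right]; exact hy
    · have h := C.R1_commute hμ hr hy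
      rw [inv_mul_cancel_right] at h
      have e : r * y * r⁻¹ = y := by
        have := congrArg (fun a => r⁻¹ * a) h
        rw [← mul_assoc r⁻¹ r, inv_mul_cancel, one_mul, ← mul_assoc, ← mul_assoc, inv_mul_cancel,
          one_mul] at this
        exact this.symm
      rwa [e] at hy

theorem R1_inf {μ : Mover D} (hμ : μ.n ∈ Γ) {y : G} (hy : y ∈ μ.R1) (hΓ : y ∈ Γ) : y = 1 := by
  obtain ⟨e⟩ := C.iso
  have : IsSimpleGroup Γ := e.isSimpleGroup_congr.2 Coset.J1.spor_isJ1.1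
  rcases IsSimpleGroup.eq_bot_or_eq_top_of_normal (center Γ) inferInstance with h | h
  · have hm : (⟨y, hΓ⟩ : Γ) ∈ center Γ :=
      Subgroup.mem_center_iff.2 fun g => Subtype.ext (C.R1_commute hμ hy g.2)
    rw [h, Subgroup.mem_bot] at hm
    exact congrArg Subtype.val hm
  · exfalso
    apply μ.h_moves
    have ht : (⟨D.t, D.t_mem_moves C.min.1⟩ : Γ) ∈ center Γ := h ▸ Subgroup.mem_top _
    exact congrArg Subtype.val
      (Subgroup.mem_center_iff.1 ht ⟨μ.h, D.mover_h_mem C.min.1.1 hμ⟩)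

theorem cent_le {g : G} (hg : g * D.t = D.t * g) : g ∈ H D Γ := by
  obtain ⟨μ, hμ⟩ := D.exists_mover C.min.1
  obtain ⟨w, hw, r, hr, rfl⟩ := μ.cent_t hg
  exact mul_mem (C.le_H (C.min.1.1 hw)) (C.R1_le_H hμ hr)

theorem isD_mem {d : G} (hd : d ∈ H D Γ) (hD : D.IsD d) : d ∈ Γ := by
  obtain ⟨g, hg, rfl⟩ := D.isD_conj_in C.moves_H hd hD
  exact (Subgroup.mem_normalizer_iff.1 hg D.t).1 (D.t_mem_moves C.min.1)

theorem exists_point {a d : G} (hd : D.IsD d) (ha : a⁻¹ * d * a ∈ H D Γ) :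
    ∃ γ ∈ Γ, d = a * γ * D.t * (a * γ)⁻¹ := by
  have hd' : D.IsD (a⁻¹ * d * a) := by simpa using hd.conj a⁻¹
  obtain ⟨γ, hγ, e⟩ := D.isD_conj_in C.min.1 (C.isD_mem ha hd') hd'
  refine ⟨γ, hγ, ?_⟩
  rw [show a * γ * D.t * (a * γ)⁻¹ = a * (γ * D.t * γ⁻¹) * a⁻¹ by group, ← e]
  group

/-- Every conjugate of `t` lies in one conjugate of the normalizer. -/
theorem uniq {a b d : G} (hd : D.IsD d) (ha : a⁻¹ * d * a ∈ H D Γ) (hb : b⁻¹ * d * b ∈ H D Γ) :
    a⁻¹ * b ∈ H D Γ := by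
  obtain ⟨γ, hγ, e⟩ := C.exists_point hd ha
  obtain ⟨γ', hγ', e'⟩ := C.exists_point hd hb
  have hc : (a * γ)⁻¹ * (b * γ') * D.t = D.t * ((a * γ)⁻¹ * (b * γ')) := by
    have := congrArg (fun y => (a * γ)⁻¹ * y * (b * γ')) (e'.symm.trans e)
    rw [show (a * γ)⁻¹ * (b * γ' * D.t * (b * γ')⁻¹) * (b * γ') = (a * γ)⁻¹ * (b * γ') * D.t
        by group,
      show (a * γ)⁻¹ * (a * γ * D.t * (a * γ)⁻¹) * (b * γ') = D.t * ((a * γ)⁻¹ * (b * γ'))
        by group] at this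
    exact this
  have h := mul_mem (mul_mem (C.le_H hγ) (C.cent_le hc)) (inv_mem (C.le_H hγ'))
  rwa [show γ * ((a * γ)⁻¹ * (b * γ')) * γ'⁻¹ = a⁻¹ * b by group] at h

/-- Commuting conjugates of `t` have the same point. -/
theorem comm_point {a z y : G} (hz : D.IsD z) (hy : D.IsD y) (hzy : y * z = z * y)
    (ha : a⁻¹ * z * a ∈ H D Γ) : a⁻¹ * y * a ∈ H D Γ := by
  obtain ⟨γ, hγ, e⟩ := C.exists_point hz ha
  have h1 : (a * γ)⁻¹ * y * (a * γ)⁻¹⁻¹ * D.t = D.t * ((a * γ)⁻¹ * y * (a * γ)⁻¹⁻¹) := by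
    have := conj_commute (a * γ)⁻¹ hzy
    rwa [show (a * γ)⁻¹ * z * (a * γ)⁻¹⁻¹ = D.t by rw [e]; group] at this
  have h2 : (a * γ)⁻¹ * y * (a * γ)⁻¹⁻¹ ∈ H D Γ :=
    C.le_H (C.min.1.1 (D.mem_W_of_isD (hy.conj _) h1))
  have h3 := mul_mem (mul_mem (C.le_H hγ) h2) (inv_mem (C.le_H hγ))
  rwa [show γ * ((a * γ)⁻¹ * y * (a * γ)⁻¹⁻¹) * γ⁻¹ = a⁻¹ * y * a by group] at h3

theorem prod_isD {z y : G} (hz : D.IsD z) (hy : D.IsD y) (hzy : y * z = z * y) (hne : z ≠ y) :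
    D.IsD (z * y) := by
  obtain ⟨g, rfl⟩ := hz
  set y' := g⁻¹ * y * g⁻¹⁻¹ with hy'
  have hc : y' * D.t = D.t * y' := by
    have := conj_commute g⁻¹ hzy
    rwa [show g⁻¹ * (g * D.t * g⁻¹) * g⁻¹⁻¹ = D.t by group] at this
  have hyW : y' ∈ D.W := D.mem_W_of_isD (hy.conj g⁻¹) hc
  have hsq : D.t * y' * (D.t * y') = 1 := by
    rw [Commute.mul_mul_mul_comm hc, D.isD_t.sq, (hy.conj g⁻¹).sq, mul_one]
  have hne' : D.t * y' ≠ 1 := fun e => hne (by
    rw [mul_eq_one_iff_inv_eq, D.isD_t.inv_eq] at e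
    rw [e, hy']; group)
  have := (D.isD_of_mem_W (mul_mem (D.E_le_W D.t_mem_E) hyW) hsq hne').conj g
  rwa [show g * (D.t * y') * g⁻¹ = g * D.t * g⁻¹ * y by rw [hy']; group] at this

theorem refl_isD {z f : G} (hz : D.IsD z) (hf : D.IsD f) (k : ℤ) : D.IsD (z * (z * f) ^ k) := by
  have ha := Invol.conj_mul_inv hz.orderOf hf.orderOf
  have haf : f * (z * f) * f⁻¹ = (z * f)⁻¹ := by
    rw [hf.inv_eq, mul_assoc, mul_assoc, hf.sq, mul_one, mul_inv_rev, hz.inv_eq, hf.inv_eq]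
  rcases Int.even_or_odd k with ⟨j, rfl⟩ | ⟨j, rfl⟩
  · have := hz.conj ((z * f) ^ (-j))
    rwa [Invol.zpow_conj_invol hz.sq ha, show (-(2 * -j)) = j + j by ring] at this
  · have := hf.conj ((z * f) ^ (-j))
    rw [Invol.zpow_conj_invol hf.sq haf, show (-(2 * -j)) = 2 * j by ring] at this
    rwa [add_comm, zpow_add, zpow_one, ← mul_assoc, ← mul_assoc, hz.sq, one_mul]

theorem odd_sep {a b z f : G} (hz : D.IsD z) (hf : D.IsD f) (ha : a⁻¹ * z * a ∈ H D Γ)
    (hb : b⁻¹ * f * b ∈ H D Γ) (hab : a⁻¹ * b ∉ H D Γ) : Odd (orderOf (z * f)) := by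
  rw [← Nat.not_even_iff_odd]
  intro heven
  obtain ⟨h2, hvz, hvf⟩ := Invol.half_props hz.orderOf hf.orderOf heven
  set v := (z * f) ^ (orderOf (z * f) / 2) with hv
  have hzv : D.IsD (z * v) := by
    rw [hv, ← zpow_natCast]; exact C.refl_isD hz hf _
  have hvD : D.IsD v := by
    have h : D.IsD (z * (z * v)) := C.prod_isD hz hzv (by
      rw [mul_assoc, hvz.eq]) (fun e => by
        have : v = 1 := mul_eq_left.1 e.symm
        rw [this, orderOf_one] at h2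
        omega)
    rwa [← mul_assoc, hz.sq, one_mul] at h
  exact hab (C.uniq hvD (C.comm_point hz hvD hvz.eq ha) (C.comm_point hf hvD hvf.eq hb))

theorem invol_isD {y : G} (hy : y ∈ Γ) (h2 : y * y = 1) (h1 : y ≠ 1) : D.IsD y := by
  obtain ⟨μ, hμ⟩ := D.exists_mover C.min.1
  have : Fact (Nat.Prime 2) := ⟨Nat.prime_two⟩
  have hEpg : IsPGroup 2 D.E := IsPGroup.of_card (p := 2) (n := 3) (by rw [D.card_E]; norm_num)
  obtain ⟨Q, hQ⟩ := (hEpg.comap_of_injective Γ.subtype Γ.subtype_injective).exists_le_sylow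
  have hyp : IsPGroup 2 (Subgroup.zpowers (⟨y, hy⟩ : Γ)) := IsPGroup.of_card (n := 1) (by
    rw [Nat.card_zpowers, Subgroup.orderOf_mk, orderOf_eq_prime (by rw [sq, h2]) h1, pow_one])
  obtain ⟨c, -, hc⟩ := exists_conj_into (C := (⊤ : Subgroup Γ)) Q le_top hyp le_top
  set y' := (c : G)⁻¹ * y * (c : G) with hy'
  have hyQ : y' ∈ (Q : Subgroup Γ).map Γ.subtype := ⟨_, hc _ (Subgroup.mem_zpowers _), rfl⟩
  have hCE := (D.two_over_E (Q.2.map Γ.subtype) fun a ha => ⟨⟨a, C.min.1.1 (D.E_le_W ha)⟩,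
    hQ (show Γ.subtype ⟨a, C.min.1.1 (D.E_le_W ha)⟩ ∈ D.E from ha), rfl⟩).1 hyQ
  obtain ⟨w, hw, r, hr, hwr⟩ := μ.cent_t (D.CE_commute_t hCE)
  have hyΓ : y' ∈ Γ := mul_mem (mul_mem (inv_mem c.2) hy) c.2
  have hr1 : r = 1 := C.R1_inf hμ hr (by
    have : r = w⁻¹ * y' := by rw [hwr, inv_mul_cancel_left]
    rw [this]; exact mul_mem (inv_mem (C.min.1.1 hw)) hyΓ)
  rw [hr1, mul_one] at hwr
  have hsq : y' * y' = 1 := by
    rw [hy', show (c : G)⁻¹ * y * c * ((c : G)⁻¹ * y * c) = (c : G)⁻¹ * (y * y) * c by group, h2,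
      mul_one, inv_mul_cancel]
  have hne : y' ≠ 1 := fun e => h1 (by
    have e' : (c : G) * y' * (c : G)⁻¹ = y := by rw [hy']; group
    rw [← e', e, mul_one, mul_inv_cancel])
  have := (D.isD_of_mem_W (hwr ▸ hw) hsq hne).conj (c : G)
  rwa [show (c : G) * y' * (c : G)⁻¹ = y by rw [hy']; group] at this

theorem cent_R1_le {μ : Mover D} (hμ : μ.n ∈ Γ) {p g : G} (hp : p ∈ μ.R1) (hp1 : p ≠ 1)
    (hg : g * p = p * g) : g ∈ H D Γ := by
  have hne : cent p ≠ ⊤ := fun e => hp1 (by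
    have : p ∈ center G := Subgroup.mem_center_iff.2 fun a => mem_cent.1 (e ▸ Subgroup.mem_top a)
    rwa [C.center_bot, Subgroup.mem_bot] at this)
  exact (D.below C.ih hne (fun γ hγ => mem_cent.2 (C.R1_commute hμ hp hγ)) C.min).2.2
    (mem_cent.2 hg)

theorem exists_decomp {μ : Mover D} {g : G} (hg : g ∈ H D Γ) :
    ∃ γ ∈ Γ, γ⁻¹ * g ∈ μ.R1 := by
  obtain ⟨γ, hγ, e⟩ := D.isD_conj_in C.min.1
    ((Subgroup.mem_normalizer_iff.1 hg D.t).1 (D.t_mem_moves C.min.1)) (D.isD_t.conj g)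
  have hc : γ⁻¹ * g * D.t = D.t * (γ⁻¹ * g) := by
    refine fix_conj ?_
    rw [show γ⁻¹ * g * D.t * (γ⁻¹ * g)⁻¹ = γ⁻¹ * (g * D.t * g⁻¹) * γ by group, e]
    group
  obtain ⟨w, hw, r, hr, hwr⟩ := μ.cent_t hc
  refine ⟨γ * w, mul_mem hγ (C.min.1.1 hw), ?_⟩
  rw [mul_inv_rev, mul_assoc, hwr, inv_mul_cancel_left]
  exact hr

theorem exists_outside : ∃ u : G, D.IsD u ∧ u ∉ H D Γ := by
  by_contra h
  push Not at h
  refine C.ne (top_le_iff.1 ?_)
  rw [← C.top, ← KX_top]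
  exact (Subgroup.closure_le _).2 fun y ⟨g, _, e⟩ => h y ⟨g, e⟩

theorem no_invol {μ : Mover D} (hμ : μ.n ∈ Γ) {u q : G} (hu : D.IsD u) (huH : u ∉ H D Γ)
    (hq : q ∈ H D Γ) (huq : u * q * u ∈ H D Γ) (h2 : q * q = 1) (h1 : q ≠ 1) : False := by
  have huinv := hu.inv_eq
  have hsplit : ∀ {a γ : G}, γ ∈ Γ → γ⁻¹ * a ∈ μ.R1 → a * a = 1 → γ * γ = 1 := by
    intro a γ hγ hr ha
    have e : a * a = γ * γ * (γ⁻¹ * a * (γ⁻¹ * a)) := by
      have hc := C.R1_commute hμ hr hγ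
      calc a * a = γ * (γ⁻¹ * a * γ) * (γ⁻¹ * a) := by group
        _ = γ * (γ * (γ⁻¹ * a)) * (γ⁻¹ * a) := by rw [← hc]
        _ = γ * γ * (γ⁻¹ * a * (γ⁻¹ * a)) := by group
    rw [ha] at e
    have hmem : γ * γ ∈ μ.R1 := by
      rw [eq_inv_of_mul_eq_one_left e.symm]
      exact inv_mem (mul_mem hr hr)
    exact C.R1_inf hμ hmem (mul_mem hγ hγ)
  -- a conjugate of `t` with the other point commuting with `q`
  obtain ⟨γ', hγ', hp'⟩ := C.exists_decomp (μ := μ) huq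
  have hγ2' := hsplit hγ' hp' (by
    rw [show u * q * u * (u * q * u) = u * (q * (u * u) * q) * u by group, hu.sq, mul_one, h2,
      mul_one, hu.sq])
  obtain ⟨f', hf'Γ, hf'D, hf'c⟩ : ∃ f' ∈ Γ, D.IsD f' ∧ f' * γ' = γ' * f' := by
    by_cases e : γ' = 1
    · exact ⟨D.t, D.t_mem_moves C.min.1, D.isD_t, by rw [e, mul_one, one_mul]⟩
    · exact ⟨γ', hγ', C.invol_isD hγ' hγ2' e, rfl⟩
  set f := u * f' * u with hf
  have hfD : D.IsD f := by simpa [huinv] using hf'D.conj u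
  have hfb : u⁻¹ * f * u ∈ H D Γ := by
    rw [huinv, hf, show u * (u * f' * u) * u = (u * u) * f' * (u * u) by group, hu.sq, one_mul,
      mul_one]
    exact C.le_H hf'Γ
  have hfq : f * q = q * f := by
    have hcomm : f' * (u * q * u) = u * q * u * f' := by
      have e : u * q * u = γ' * (γ'⁻¹ * (u * q * u)) := by group
      have h1 : Commute f' γ' := hf'c
      have h2 : Commute f' (γ'⁻¹ * (u * q * u)) := C.R1_commute hμ hp' hf'Γ
      rw [e]
      exact (h1.mul_right h2).eq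
    have := conj_commute u hcomm
    rwa [huinv, ← hf, show u * (u * q * u) * u = (u * u) * q * (u * u) by group, hu.sq, one_mul,
      mul_one] at this
  obtain ⟨γ, hγ, hp⟩ := C.exists_decomp (μ := μ) hq
  have hγ2 := hsplit hγ hp h2
  by_cases hγ1 : γ = 1
  · rw [hγ1, inv_one, one_mul] at hp
    have hfH := C.cent_R1_le hμ hp h1 hfq
    have := C.uniq (a := 1) hfD (by simpa using hfH) hfb
    exact huH (by simpa using this)
  have hγD := C.invol_isD hγ hγ2 hγ1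
  obtain ⟨γ0, hγ0, hz⟩ := D.isD_conj_in C.min.1 hγ hγD
  set j := γ0 * D.pt 1 * γ0⁻¹ with hj
  have hjΓ : j ∈ Γ := mul_mem (mul_mem hγ0 (C.min.1.1 (D.E_le_W (D.pt_mem 1)))) (inv_mem hγ0)
  have hjD : D.IsD j := (D.isD_pt 1).conj γ0
  have hjz : j ≠ γ := fun e => by
    rw [hz, hj] at e
    have e' := mul_left_cancel (mul_right_cancel e)
    rw [← D.pt_zero] at e'
    exact absurd (D.pt_injective e') (by decide)
  have hjc : Commute j γ := by
    have h := conj_commute γ0 (D.E_comm (D.pt_mem 1) D.t_mem_E)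
    rwa [← hz] at h
  have hqe : q = γ * (γ⁻¹ * q) := by group
  have hzq : Commute γ q := by
    rw [hqe]
    exact (Commute.refl γ).mul_right (C.R1_commute hμ hp hγ)
  have hjq : Commute j q := by
    rw [hqe]
    exact hjc.mul_right (C.R1_commute hμ hp hjΓ)
  have hodd : ∀ {a : G}, D.IsD a → a ∈ Γ → Odd (orderOf (a * f)) := fun {a} haD haΓ =>
    C.odd_sep (a := 1) (b := u) haD hfD (by simpa using C.le_H haΓ) hfb (by simpa using huH)
  have hclose : ∀ {a d : G}, Commute a q → d ∈ Subgroup.closure ({a, f} : Set G) → Commute d q := by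
    intro a d ha hd
    have hle : Subgroup.closure ({a, f} : Set G) ≤ cent q := by
      rw [Subgroup.closure_le, Set.insert_subset_iff, Set.singleton_subset_iff]
      exact ⟨mem_cent.2 ha.eq, mem_cent.2 hfq⟩
    exact mem_cent.1 (hle hd)
  obtain ⟨d, hd, hdz⟩ := Invol.exists_conj_of_odd hγD.orderOf hfD.orderOf (hodd hγD hγ)
  obtain ⟨d', hd', hdj⟩ := Invol.exists_conj_of_odd hjD.orderOf hfD.orderOf (hodd hjD hjΓ)
  set g := d'⁻¹ * d with hg
  have hgq : Commute g q := ((hclose hjq hd').inv_left).mul_left (hclose hzq hd)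
  have hgz : g * γ * g⁻¹ = j := by
    rw [hg, show d'⁻¹ * d * γ * (d'⁻¹ * d)⁻¹ = d'⁻¹ * (d * γ * d⁻¹) * d' by group, hdz, ← hdj]
    group
  have hgH : g ∈ H D Γ := by
    have h1' : g⁻¹ * j * g ∈ H D Γ := by
      rw [← hgz, show g⁻¹ * (g * γ * g⁻¹) * g = γ by group]
      exact C.le_H hγ
    have := C.uniq (a := 1) (b := g) hjD (by simpa using C.le_H hjΓ) h1'
    simpa using this
  obtain ⟨γ1, hγ1m, hp1⟩ := C.exists_decomp (μ := μ) hgH
  have hcomm : γ1 * γ = γ * γ1 := by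
    have e1 : γ1⁻¹ * g * γ = γ * (γ1⁻¹ * g) := (C.R1_commute hμ hp1 hγ).symm
    have e2 : γ⁻¹ * q * γ1 = γ1 * (γ⁻¹ * q) := (C.R1_commute hμ hp hγ1m).symm
    have hmem : (γ * γ1)⁻¹ * (γ1 * γ) = γ⁻¹ * q * (γ1⁻¹ * g) * ((γ1⁻¹ * g) * (γ⁻¹ * q))⁻¹ := by
      have hgq' := hgq.eq
      have lhs : g * q = γ1 * γ * ((γ1⁻¹ * g) * (γ⁻¹ * q)) := by
        calc g * q = γ1 * (γ1⁻¹ * g * γ) * (γ⁻¹ * q) := by group
          _ = γ1 * γ * ((γ1⁻¹ * g) * (γ⁻¹ * q)) := by rw [e1]; group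
      have rhs : q * g = γ * γ1 * ((γ⁻¹ * q) * (γ1⁻¹ * g)) := by
        calc q * g = γ * (γ⁻¹ * q * γ1) * (γ1⁻¹ * g) := by group
          _ = γ * γ1 * ((γ⁻¹ * q) * (γ1⁻¹ * g)) := by rw [e2]; group
      rw [lhs, rhs] at hgq'
      calc (γ * γ1)⁻¹ * (γ1 * γ)
          = (γ * γ1)⁻¹ * (γ1 * γ * ((γ1⁻¹ * g) * (γ⁻¹ * q))) *
              ((γ1⁻¹ * g) * (γ⁻¹ * q))⁻¹ := by group
        _ = _ := by rw [hgq']; group
    have h := C.R1_inf hμ (y := (γ * γ1)⁻¹ * (γ1 * γ))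
      (by rw [hmem]; exact mul_mem (mul_mem hp hp1) (inv_mem (mul_mem hp1 hp)))
      (mul_mem (inv_mem (mul_mem hγ hγ1m)) (mul_mem hγ1m hγ))
    exact (inv_mul_eq_one.1 h).symm
  apply hjz
  have hc1 : Commute (γ1⁻¹ * g) γ := (C.R1_commute hμ hp1 hγ).symm
  have hc2 : Commute g γ := by
    have := (show Commute γ1 γ from hcomm).mul_left hc1
    rwa [mul_inv_cancel_left] at this
  rw [← hgz, conj_fix hc2.eq]

theorem false_config : False := by
  classical
  obtain ⟨μ, hμ⟩ := D.exists_mover C.min.1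
  obtain ⟨u, hu, huH⟩ := C.exists_outside
  have huinv := hu.inv_eq
  have : Fact (Nat.Prime 2) := ⟨Nat.prime_two⟩
  obtain ⟨e⟩ := C.iso
  set Hs := H D Γ with hHs
  -- the projection to `Γ`
  have huniq : ∀ {g a b : G}, a ∈ Γ → b ∈ Γ → a⁻¹ * g ∈ μ.R1 → b⁻¹ * g ∈ μ.R1 → a = b := by
    intro g a b ha hb h1 h2
    have := C.R1_inf hμ (y := a⁻¹ * b)
      (by simpa [mul_assoc] using mul_mem h1 (inv_mem h2)) (mul_mem (inv_mem ha) hb)
    exact inv_mul_eq_one.1 this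
  choose π hπΓ hπR using fun y : Hs => C.exists_decomp (μ := μ) y.2
  let πh : Hs →* Γ := MonoidHom.mk' (fun y => ⟨π y, hπΓ y⟩) fun a b => Subtype.ext (by
    refine huniq (g := ((a * b : Hs) : G)) (hπΓ _) (mul_mem (hπΓ a) (hπΓ b)) (hπR _) ?_
    show (π a * π b)⁻¹ * ((a : G) * b) ∈ μ.R1
    rw [show (π a * π b)⁻¹ * ((a : G) * b) = (π b)⁻¹ * ((π a)⁻¹ * a) * π b * ((π b)⁻¹ * b) by group,
      mul_assoc (π b)⁻¹, ← C.R1_commute hμ (hπR a) (hπΓ b), inv_mul_cancel_left]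
    exact mul_mem (hπR a) (hπR b))
  have hπone : ∀ y : Hs, πh y = 1 → (y : G) ∈ μ.R1 := fun y h => by
    have h1 : π y = 1 := congrArg Subtype.val h
    simpa [h1] using hπR y
  -- the two-point stabiliser
  let Q : Subgroup Hs := (Hs.comap (MulAut.conj u).toMonoidHom).subgroupOf Hs
  have hQmem : ∀ y : Hs, y ∈ Q ↔ u * (y : G) * u ∈ Hs := fun y => by
    show u * (y : G) * u⁻¹ ∈ Hs ↔ _
    rw [huinv]
  have hQodd : Odd (Nat.card Q) := by
    rw [← Nat.not_even_iff_odd, even_iff_two_dvd]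
    intro h2
    obtain ⟨q, hq⟩ := exists_prime_orderOf_dvd_card' 2 h2
    rw [← Subgroup.orderOf_coe, ← Subgroup.orderOf_coe] at hq
    refine C.no_invol hμ hu huH (q : Hs).2 ((hQmem _).1 q.2) ?_ ?_
    · rw [← sq, ← hq, pow_orderOf_eq_one]
    · intro h; rw [h, orderOf_one] at hq; omega
  let L : Subgroup Γ := Q.map πh
  have hLodd : Odd (Nat.card L) := hQodd.of_dvd_nat (Q.card_map_dvd πh)
  have hlt := odd_lt e L hLodd
  -- one element of `L` for each conjugate of `t` in `Γ`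
  set C0 := (cent D.t).subgroupOf Γ
  have hC0 : Nat.card C0 = 120 := by
    have hmap : C0.map Γ.subtype = D.ι.range := by
      rw [D.ι_range, Subgroup.subgroupOf_map_subtype]
      refine le_antisymm (fun c hc => ?_) (le_inf (fun w hw => mem_cent.2 (wc_commute hw)) C.min.1.1)
      obtain ⟨w, hw, r, hr, rfl⟩ := μ.cent_t (mem_cent.1 hc.1)
      have hr1 : r = 1 := C.R1_inf hμ hr (by
        have := mul_mem (inv_mem (C.min.1.1 hw)) hc.2
        simpa using this)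
      rw [hr1, mul_one]; exact hw
    rw [← Subgroup.card_map_of_injective Γ.subtype_injective, hmap,
      ← Nat.card_congr (MonoidHom.ofInjective D.ι_inj).toEquiv, card_M]
  have hidx : Nat.card (Γ ⧸ C0) = 1463 := by
    have h := C0.card_mul_index
    rw [hC0, (Nat.card_congr e.toEquiv).trans Coset.J1.spor_isJ1.2] at h
    have : C0.index = 1463 := by omega
    exact this
  set f := u * D.t * u with hfdef
  have hfD : D.IsD f := by simpa [huinv] using D.isD_t.conj u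
  have hfb : u⁻¹ * f * u ∈ Hs := by
    rw [huinv, hfdef, show u * (u * D.t * u) * u = (u * u) * D.t * (u * u) by group, hu.sq, one_mul,
      mul_one]
    exact C.le_H (D.t_mem_moves C.min.1)
  have hmid : ∀ g : G, g ∈ Γ → D.IsD g → ∃ d : G, D.IsD d ∧ d * g * d⁻¹ = f := by
    intro g hg hgD
    have hodd := C.odd_sep (a := 1) (b := u) hgD hfD (by simpa using C.le_H hg) hfb
      (by simpa using huH)
    obtain ⟨d, hd, hdg⟩ := Invol.exists_conj_of_odd hgD.orderOf hfD.orderOf hodd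
    rcases (Invol.mem_closure_pair_iff hgD.orderOf hfD.orderOf).1 hd with ⟨k, rfl⟩ | ⟨k, rfl⟩
    · refine ⟨(g * f) ^ k * g, ?_, ?_⟩
      · have := Invol.conj_zpow_of_inverts (Invol.conj_mul_inv hgD.orderOf hfD.orderOf) (-k)
        rw [neg_neg, hgD.inv_eq] at this
        rw [← this, mul_assoc, hgD.sq, mul_one]
        exact C.refl_isD hgD hfD _
      · rw [show (g * f) ^ k * g * g * ((g * f) ^ k * g)⁻¹
          = (g * f) ^ k * (g * g * g⁻¹) * ((g * f) ^ k)⁻¹ by group, hgD.sq, one_mul, hgD.inv_eq]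
        exact hdg
    · exact ⟨_, C.refl_isD hgD hfD k, hdg⟩
  have hpick : ∀ c : Γ ⧸ C0, ∃ y : Hs, ∃ d : G, y ∈ Q ∧ D.IsD d ∧ (y : G) = d * u ∧
      d * f * d⁻¹ = (c.out : G) * D.t * (c.out : G)⁻¹ := by
    intro c
    set g := (c.out : G) * D.t * (c.out : G)⁻¹ with hgdef
    have hgΓ : g ∈ Γ := mul_mem (mul_mem c.out.2 (D.t_mem_moves C.min.1)) (inv_mem c.out.2)
    obtain ⟨d, hdD, hd⟩ := hmid g hgΓ (D.isD_t.conj _)
    have hdfd : d * f * d⁻¹ = g := by
      rw [← hd, hdD.inv_eq, show d * (d * g * d) * d = (d * d) * g * (d * d) by group, hdD.sq,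
        one_mul, mul_one]
    have hy : d * u ∈ Hs := by
      have hconj : d * u * D.t * (d * u)⁻¹ = g := by
        rw [mul_inv_rev, huinv, ← hdfd, hfdef]; group
      have h1 : (d * u)⁻¹ * g * (d * u) ∈ Hs := by
        rw [← hconj, show (d * u)⁻¹ * (d * u * D.t * (d * u)⁻¹) * (d * u) = D.t by group]
        exact C.le_H (D.t_mem_moves C.min.1)
      simpa using C.uniq (a := 1) (b := d * u) (D.isD_t.conj _) (by simpa using C.le_H hgΓ) h1
    refine ⟨⟨d * u, hy⟩, d, (hQmem _).2 ?_, hdD, rfl, hdfd⟩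
    have := inv_mem hy
    rw [mul_inv_rev, huinv, hdD.inv_eq] at this
    show u * (d * u) * u ∈ Hs
    rwa [show u * (d * u) * u = u * d * (u * u) by group, hu.sq, mul_one]
  choose y d hyQ hdD hyd hdg using hpick
  let Φ : Γ ⧸ C0 → L := fun c => ⟨πh (y c), Subgroup.mem_map_of_mem πh (hyQ c)⟩
  have hinj : Function.Injective Φ := by
    intro c c' he
    have he' : πh (y c) = πh (y c') := congrArg Subtype.val he
    set x := (y c)⁻¹ * y c' with hx
    have hxR : (x : G) ∈ μ.R1 := hπone x (by rw [hx, map_mul, map_inv, he', inv_mul_cancel])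
    have hux : u * (x : G) * u = ((y c * (y c')⁻¹ : Hs) : G) := by
      rw [hx, Subgroup.coe_mul, Subgroup.coe_mul, Subgroup.coe_inv, Subgroup.coe_inv, hyd, hyd,
        mul_inv_rev, mul_inv_rev, huinv, (hdD c).inv_eq, (hdD c').inv_eq]
      calc u * (u * d c * (d c' * u)) * u = (u * u) * d c * d c' * (u * u) := by group
        _ = d c * d c' := by rw [hu.sq, one_mul, mul_one]
        _ = d c * (u * u) * d c' := by rw [hu.sq, mul_one]
        _ = d c * u * (u * d c') := by group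
    have hxR' : u * (x : G) * u ∈ μ.R1 := hux ▸ hπone _ (by rw [map_mul, map_inv, he',
      mul_inv_cancel])
    have hx1 : (x : G) = 1 := by
      by_contra hne
      have hcomm : f * (x : G) = x * f := by
        have := conj_commute u (C.R1_commute hμ hxR' (D.t_mem_moves C.min.1))
        rwa [huinv, ← hfdef, show u * (u * (x : G) * u) * u = (u * u) * x * (u * u) by group, hu.sq,
          one_mul, mul_one] at this
      have hfH := C.cent_R1_le hμ hxR hne hcomm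
      have := C.uniq (a := 1) hfD (by simpa using hfH) hfb
      exact huH (by simpa using this)
    have hyy : (y c : G) = y c' := by
      have hx1' : ((y c : G))⁻¹ * (y c' : G) = 1 := by simpa [hx] using hx1
      exact inv_mul_eq_one.1 hx1'
    rw [hyd, hyd] at hyy
    have hdd : d c = d c' := mul_right_cancel hyy
    have hgg : (c.out : G) * D.t * (c.out : G)⁻¹ = c'.out * D.t * (c'.out : G)⁻¹ := by
      rw [← hdg, ← hdg, hdd]
    have hmem : c.out⁻¹ * c'.out ∈ C0 := by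
      rw [Subgroup.mem_subgroupOf, mem_cent, Subgroup.coe_mul, Subgroup.coe_inv]
      refine fix_conj ?_
      rw [show ((c.out : G))⁻¹ * c'.out * D.t * ((c.out : G)⁻¹ * c'.out)⁻¹
        = (c.out : G)⁻¹ * ((c'.out : G) * D.t * (c'.out : G)⁻¹) * c.out by group, ← hgg]
      group
    have := QuotientGroup.eq.2 hmem
    rwa [QuotientGroup.out_eq', QuotientGroup.out_eq'] at this
  have := Nat.card_le_card_of_injective Φ hinj
  omega

end Config

end CfsgLib.J1Weak
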