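import Cfsg.Agent.J1Weak.Central
import Cfsg.Agent.J1Weak.Points

/-!
# The weak closure `C₂ × A₅` gives the first group of Janko
-/

set_option autoImplicit false
set_option linter.style.haveILetI false

namespace CfsgLib.J1Weak

universe u

theorem goal_of_card : ∀ n : ℕ, ∀ (G : Type u) [Group G] [Finite G] (t : G),
    Nat.card G = n → Hyp t → Goal t := by
  intro n
  induction n using Nat.strong_induction_on with
  | _ n ihn =>
    intro G _ _ t hcard hyp
    have ih : IH G := fun H _ _ s hlt hs => ihn _ (hcard ▸ hlt) H s rfl hs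
    obtain ⟨D, rfl⟩ := hyp.exists_setup
    by_cases hK : Subgroup.normalClosure ({D.t} : Set G) = ⊤
    · have htop : ∀ Γ, IsMin D.t Γ → Γ = ⊤ := by
        intro Γ hΓ
        have hn : Subgroup.normalizer (Γ : Set G) = ⊤ := by
          by_contra hne
          exact (Config.mk ih hK hΓ hne).false_config
        have : Γ.Normal := Subgroup.normalizer_eq_top_iff.1 hn
        exact top_le_iff.1 (hK ▸ Subgroup.normalClosure_le_normal
          (Set.singleton_subset_iff.2 (D.t_mem_moves hΓ.1)))
      obtain ⟨Γ, hΓ⟩ := D.exists_isMin_top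
      obtain ⟨μ, hμ⟩ := D.exists_mover hΓ.1
      have hR : μ.R1 = Subgroup.center G :=
        D.W_central ((D.min_eq_gen hΓ hμ).trans (htop Γ hΓ))
      exact D.goal_of_top hK htop (D.iso_of_central hR hK)
    · exact D.goal_of_proper ih hK

theorem iso_J1_of_weak_closure {G : Type u} [Group G] [Finite G] {t : G} (h : Hyp t) :
    Cfsg.Spor.IsoJ1 ↥(Subgroup.normalClosure ({t} : Set G)) :=
  (goal_of_card _ G t rfl h).1

end CfsgLib.J1Weak
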