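import Mathlib.GroupTheory.SpecificGroups.Alternating
import Mathlib.GroupTheory.Sylow

/-!
# Facts about the group `C₂ × A₅` and its standard Sylow `2`-subgroup
-/

set_option autoImplicit false
set_option maxRecDepth 100000

namespace CfsgLib.J1Weak

open scoped Pointwise

/-- The model `C₂ × A₅`. -/
abbrev M : Type := Multiplicative (ZMod 2) × alternatingGroup (Fin 5)

/-- The central involution. -/
def z : M := (Multiplicative.ofAdd 1, 1)

/-- A five-cycle. -/
def g5 : M := (1, ⟨finRotate 5, Equiv.Perm.mem_alternatingGroup.2 (by decide +kernel)⟩)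

/-- A three-cycle normalizing the Sylow subgroup. -/
def x0 : M :=
  (1, ⟨Equiv.swap 2 3 * Equiv.swap 3 4, Equiv.Perm.mem_alternatingGroup.2 (by decide +kernel)⟩)

/-- The three involutions of `A₅` in the Sylow subgroup. -/
def v1 : M :=
  (1, ⟨Equiv.swap 1 2 * Equiv.swap 3 4, Equiv.Perm.mem_alternatingGroup.2 (by decide +kernel)⟩)

/-- The second one. -/
def v2 : M :=
  (1, ⟨Equiv.swap 1 3 * Equiv.swap 2 4, Equiv.Perm.mem_alternatingGroup.2 (by decide +kernel)⟩)

/-- The seven involutions of the Sylow subgroup. -/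
def pts : Fin 7 → M := ![z, v1, v2, v1 * v2, z * v1, z * v2, z * (v1 * v2)]

/-- How `x0` permutes the seven involutions. -/
def sig : Fin 7 → Fin 7 := ![0, 2, 3, 1, 5, 6, 4]

theorem E0_one : ((1 : M).2.1 0 = 0 ∧ (1 : M) * 1 = 1) := by decide +kernel

theorem E0_mul : ∀ a b : M, (a.2.1 0 = 0 ∧ a * a = 1) → (b.2.1 0 = 0 ∧ b * b = 1) →
    ((a * b).2.1 0 = 0 ∧ a * b * (a * b) = 1) := by decide +kernel

/-- The standard Sylow `2`-subgroup `C₂ × V₄`. -/
def E0 : Subgroup M where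
  carrier := {m | m.2.1 0 = 0 ∧ m * m = 1}
  mul_mem' := fun {a b} => E0_mul a b
  one_mem' := E0_one
  inv_mem' := fun {a} h => by
    rw [Set.mem_ofPred_eq, inv_eq_of_mul_eq_one_right h.2]; exact h

theorem mem_E0 {m : M} : m ∈ E0 ↔ m.2.1 0 = 0 ∧ m * m = 1 := Iff.rfl

instance : DecidablePred (· ∈ E0) := fun m => decidable_of_iff _ (mem_E0 (m := m)).symm

theorem card_E0 : Nat.card E0 = 8 := by
  rw [Nat.card_eq_fintype_card, Fintype.card_subtype]
  decide +kernel

theorem card_M : Nat.card M = 120 := by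
  rw [Nat.card_eq_fintype_card]
  decide +kernel

theorem pts_mem : ∀ i, pts i ∈ E0 ∧ pts i ≠ 1 := by decide +kernel

theorem mem_E0_iff : ∀ m : M, m ∈ E0 ↔ m = 1 ∨ ∃ i, m = pts i := by decide +kernel

theorem pts_injective : Function.Injective pts := by decide +kernel

theorem pts_zero : pts 0 = z := rfl

theorem x0_pts : ∀ i, x0 * pts i * x0⁻¹ = pts (sig i) := by decide +kernel

theorem x0_cube : x0 ^ 3 = 1 ∧ x0 ≠ 1 := by decide +kernel

theorem x0_fix : ∀ m : M, m ∈ E0 → x0 * m * x0⁻¹ = m → m = 1 ∨ m = z := by decide +kernel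

theorem z_central : ∀ m : M, m * z = z * m := by decide +kernel

theorem z_props : z * z = 1 ∧ z ≠ 1 ∧ z ∈ E0 := by decide +kernel

theorem center_eq : ∀ m : M, m * g5 = g5 * m → m * x0 = x0 * m → m = 1 ∨ m = z := by
  decide +kernel

theorem noncomm : g5 * x0 ≠ x0 * g5 := by decide +kernel

theorem not_mem_z : ∀ m : M, m = 1 ∨ m = z → m ≠ g5 := by decide +kernel

theorem invol_conj : ∀ m : M, m * m = 1 → ∃ w : M, w * m * w⁻¹ ∈ E0 := by decide +kernel

theorem sq_of_two : ∀ m : M, m ^ 8 = 1 → m * m = 1 := by decide +kernel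

theorem pow_thirty : ∀ m : M, m ^ 30 = 1 := by decide +kernel

theorem x0_word : x0 = g5 * g5 * v2 * g5 := by decide +kernel

theorem decomp : ∀ m : M, ∃ i : Fin 5, ∃ j : Fin 3,
    (x0 ^ (j : ℕ))⁻¹ * ((g5 ^ (i : ℕ))⁻¹ * m) ∈ E0 := by decide +kernel

set_option synthInstance.maxSize 4096 in
/-- Only conjugation by the Sylow subgroup moves the five-cycle with it fixed. -/
theorem rigid : ∀ y : M, y ^ 5 = 1 → (y * v1) ^ 3 = 1 → (y * v2) ^ 5 = 1 →
    (y * (v1 * v2)) ^ 2 = 1 → y ≠ 1 → ∃ v : M, v ∈ E0 ∧ v * g5 * v⁻¹ = y := by decide +kernel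

theorem g5_rels : g5 ^ 5 = 1 ∧ (g5 * v1) ^ 3 = 1 ∧ (g5 * v2) ^ 5 = 1 ∧
    (g5 * (v1 * v2)) ^ 2 = 1 ∧ g5 ≠ 1 := by decide +kernel

theorem v_mem : v1 ∈ E0 ∧ v2 ∈ E0 ∧ v1 * v2 ∈ E0 := by decide +kernel

set_option synthInstance.maxSize 4096 in
/-- A normal subgroup of odd order is trivial. -/
theorem odd_witness : ∀ y : M, y ^ 15 = 1 → y ≠ 1 →
    ∃ w : M, (y * (w * (y * y) * w⁻¹)) * (y * (w * (y * y) * w⁻¹)) = 1 ∧
      y * (w * (y * y) * w⁻¹) ≠ 1 := by
  decide +kernel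

/-- The commutators among the seven involutions. -/
theorem pts_commutator : ∀ i : Fin 7, (i = 1 ∨ i = 2 ∨ i = 3) →
    ∃ a b : M, pts i = a * b * a⁻¹ * b⁻¹ := by decide +kernel

theorem commutator_fst (a b : M) : (a * b * a⁻¹ * b⁻¹).1 = 1 := by
  simp only [Prod.fst_mul, Prod.fst_inv]
  rw [mul_comm a.1 b.1, mul_inv_cancel_right, mul_inv_cancel]

theorem fst_one_cases : ∀ i : Fin 7, (pts i).1 = 1 → i = 1 ∨ i = 2 ∨ i = 3 := by decide +kernel

theorem z_mul_pts : z * pts 1 = pts 4 ∧ z * pts 2 = pts 5 ∧ z * pts 3 = pts 6 := by decide +kernel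

/-- An odd invariant set of the involutions containing `z` and another one is everything. -/
theorem parity : ∀ p : Fin 7 → Bool, p 0 = true → (∀ i, p i = true → p (sig i) = true) →
    (Finset.univ.filter fun i => p i = true).card % 2 = 1 → (∃ i, i ≠ 0 ∧ p i = true) →
    ∀ i, p i = true := by decide +kernel

theorem g5_two_conj : ∀ i : Fin 7, i ≠ 0 →
    ∃ w w' : M, g5 = (w * pts i * w⁻¹) * (w' * pts i * w'⁻¹) := by decide +kernel

theorem orbit_z : ∀ i j : Fin 7, i ≠ 0 → j = 0 ∨ ∃ a : Fin 3,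
    pts j = x0 ^ (a : ℕ) * pts i * (x0 ^ (a : ℕ))⁻¹ ∨
    pts j = z * (x0 ^ (a : ℕ) * pts i * (x0 ^ (a : ℕ))⁻¹) := by decide +kernel

theorem eq_top_of_gens {H : Subgroup M} (h5 : g5 ∈ H) (hE : E0 ≤ H) : H = ⊤ := by
  have hx : x0 ∈ H := by
    rw [x0_word]
    exact mul_mem (mul_mem (mul_mem h5 h5) (hE v_mem.2.1)) h5
  refine Subgroup.ext fun m => iff_of_true ?_ (Subgroup.mem_top m)
  obtain ⟨i, j, h⟩ := decomp m
  have h' := hE h
  rwa [H.mul_mem_cancel_left (inv_mem (pow_mem hx _)),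
    H.mul_mem_cancel_left (inv_mem (pow_mem h5 _))] at h'

theorem eq_top_of_normal {H : Subgroup M} [H.Normal] (hz : z ∈ H) {i : Fin 7} (hi : i ≠ 0)
    (hp : pts i ∈ H) : H = ⊤ := by
  have hN : H.Normal := inferInstance
  refine eq_top_of_gens ?_ fun m hm => ?_
  · obtain ⟨w, w', h⟩ := g5_two_conj i hi
    rw [h]
    exact mul_mem (hN.conj_mem _ hp _) (hN.conj_mem _ hp _)
  · rcases (mem_E0_iff m).1 hm with rfl | ⟨j, rfl⟩
    · exact one_mem H
    rcases orbit_z i j hi with rfl | ⟨a, h | h⟩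
    · exact hz
    · rw [h]; exact hN.conj_mem _ hp _
    · rw [h]; exact mul_mem hz (hN.conj_mem _ hp _)

/-- Every subgroup of order `8` is conjugate to the standard one. -/
theorem exists_conj_E0 (P : Subgroup M) (hP : Nat.card P = 8) :
    ∃ w : M, ∀ m : M, m ∈ E0 ↔ w * m * w⁻¹ ∈ P := by
  have : Fact (Nat.Prime 2) := ⟨Nat.prime_two⟩
  have hpow : 2 ^ (Nat.card M).factorization 2 = 8 := by
    rw [card_M, show (120 : ℕ) = 2 ^ 3 * 15 by norm_num, Nat.factorization_mul (by norm_num)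
      (by norm_num), Finsupp.add_apply, Nat.Prime.factorization_pow Nat.prime_two,
      Finsupp.single_eq_same, Nat.factorization_eq_zero_of_not_dvd (by norm_num : ¬ 2 ∣ 15)]
    norm_num
  let A : Sylow 2 M := Sylow.ofCard E0 (card_E0.trans hpow.symm)
  let B : Sylow 2 M := Sylow.ofCard P (hP.trans hpow.symm)
  obtain ⟨w, hw⟩ := MulAction.exists_smul_eq M A B
  refine ⟨w, fun m => ?_⟩
  have hB : (P : Subgroup M) = MulAut.conj w • E0 := by
    have := congrArg (fun Q : Sylow 2 M => (Q : Subgroup M)) hw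
    simp only [Sylow.smul_def, Sylow.pointwise_smul_def] at this
    exact this.symm
  rw [hB, show w * m * w⁻¹ = MulAut.conj w • m from rfl,
    Subgroup.smul_mem_pointwise_smul_iff]

end CfsgLib.J1Weak
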