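import Cfsg.Agent.J1Weak.Induct

/-!
# The centre
-/

set_option autoImplicit false
set_option linter.style.haveILetI false
set_option linter.unusedSectionVars false

namespace CfsgLib.J1Weak

open Subgroup (center)

universe u

variable {G : Type u} [Group G] [Finite G]

namespace Setup

variable (D : Setup G)

/-- A central element of the weak closure is trivial. -/
theorem center_inf_W {μ : Mover D} {y : G} (hy : y ∈ center G) (hW : y ∈ D.W) : y = 1 := by
  refine μ.R1_inf_W ⟨D.mem_R.2 fun m => (Subgroup.mem_center_iff.1 hy _).symm, ?_⟩ hW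
  exact mem_cent.2 (Subgroup.mem_center_iff.1 hy _).symm

theorem center_eq_bot (ih : IH G) (hK : Subgroup.normalClosure ({D.t} : Set G) = ⊤)
    {Γ : Subgroup G} (hΓ : IsMin D.t Γ) (hH : Subgroup.normalizer (Γ : Set G) ≠ ⊤) :
    center G = ⊥ := by
  by_contra hne
  obtain ⟨μ, hμ⟩ := D.exists_mover hΓ.1
  obtain ⟨z, hz, hz1⟩ := (Subgroup.bot_or_exists_ne_one (center G)).resolve_left hne
  set Z := Subgroup.zpowers z with hZdef
  have hZc : Z ≤ center G := Subgroup.zpowers_le.2 hz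
  have : Z.Normal := ⟨fun a ha g => by
    rwa [Subgroup.mem_center_iff.1 (hZc ha) g, mul_inv_cancel_right]⟩
  set q := QuotientGroup.mk' Z
  have hq : Function.Surjective q := QuotientGroup.mk'_surjective Z
  have hZW : ∀ y ∈ Z, y ∈ D.W → y = 1 := fun y hy hW => D.center_inf_W (μ := μ) (hZc hy) hW
  have hlift : ∀ g : G, g * D.t * g⁻¹ * D.t⁻¹ ∈ Z → g * D.t = D.t * g := by
    intro g hg
    set c := g * D.t * g⁻¹ * D.t⁻¹ with hc
    have hd : g * D.t * g⁻¹ = c * D.t := by rw [hc, inv_mul_cancel_right]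
    have hcomm : g * D.t * g⁻¹ * D.t = D.t * (g * D.t * g⁻¹) := by
      rw [hd, ← mul_assoc D.t c, Subgroup.mem_center_iff.1 (hZc hg) D.t]
    have hW := D.mem_W_of_isD (D.isD_t.conj g) hcomm
    have h1 : c = 1 := hZW c hg (mul_mem hW (inv_mem (D.E_le_W D.t_mem_E)))
    rw [h1, one_mul] at hd
    exact fix_conj hd
  have ht : orderOf (q D.t) = 2 := by
    refine orderOf_eq_prime (by rw [← map_pow, ← D.ord, pow_orderOf_eq_one, map_one]) fun e => ?_
    exact μ.h_moves (Subgroup.mem_center_iff.1 (hZc ((QuotientGroup.eq_one_iff _).1 e)) μ.h)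
  have hwc : wc (q D.t) = D.W.map q := by
    rw [wc, W, wc, MonoidHom.map_closure]
    congr 1
    ext y
    constructor
    · rintro ⟨b, rfl, hc⟩
      obtain ⟨g, rfl⟩ := hq b
      refine ⟨g * D.t * g⁻¹, ⟨g, rfl, ?_⟩, by simp only [map_mul, map_inv]⟩
      apply hlift
      refine (QuotientGroup.eq_one_iff _).1 ?_
      show q (g * D.t * g⁻¹ * D.t * (g * D.t * g⁻¹)⁻¹ * D.t⁻¹) = 1
      simp only [map_mul, map_inv] at hc ⊢
      rw [hc, mul_inv_cancel_right, mul_inv_cancel]
    · rintro ⟨a, ⟨g, rfl, hc⟩, rfl⟩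
      exact ⟨q g, by simp only [map_mul, map_inv], by rw [← map_mul, ← map_mul, hc]⟩
  have hinj : Function.Injective (q.comp D.ι) := by
    refine (injective_iff_map_eq_one _).2 fun m hm => ?_
    exact D.ι_inj ((hZW _ ((QuotientGroup.eq_one_iff _).1 hm) (D.ι_mem m)).trans (map_one _).symm)
  have hyp : Hyp (q D.t) := by
    have : Fact (Nat.Prime 2) := ⟨Nat.prime_two⟩
    refine ⟨ht, ⟨D.S.mapSurjective hq, ⟨D.t, D.htS, rfl⟩, ?_⟩, ?_⟩
    · rintro _ ⟨s, hs, rfl⟩
      rw [← map_mul, ← map_mul, D.hSc s hs]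
    · have hr : (q.comp D.ι).range = wc (q D.t) := by
        rw [MonoidHom.range_comp, D.ι_range, hwc]
      exact ⟨(MulEquiv.subgroupCongr hr.symm).trans (MonoidHom.ofInjective hinj).symm⟩
  have hlt : Nat.card (G ⧸ Z) < Nat.card G := by
    rw [Subgroup.card_eq_card_quotient_mul_card_subgroup Z]
    refine lt_mul_of_one_lt_right Nat.card_pos ?_
    rw [hZdef, Nat.card_zpowers]
    have h0 := orderOf_pos z
    have h1 : orderOf z ≠ 1 := fun e => hz1 (orderOf_eq_one_iff.1 e)
    omega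
  obtain ⟨-, h2⟩ := ih (G ⧸ Z) (q D.t) hlt hyp
  have hmove := h2 (Γ.map q) (by rw [hwc]; exact Subgroup.map_mono hΓ.1.1) ⟨q μ.h,
    Subgroup.mem_map_of_mem q (D.mover_h_mem hΓ.1.1 hμ), by
      rw [hwc, ← map_inv, ← map_mul, ← map_mul]
      exact Subgroup.mem_map_of_mem q μ.h_conj_t.1, fun e => μ.h_moves (hlift _ (by
      refine (QuotientGroup.eq_one_iff _).1 ?_
      show q _ = 1
      simp only [map_mul, map_inv] at e ⊢
      rw [e, mul_inv_cancel]))⟩
  rw [← Set.image_singleton (f := q), ← Subgroup.map_normalClosure _ _ hq, hK,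
    Subgroup.map_top_of_surjective q hq, top_le_iff] at hmove
  apply hH
  refine top_le_iff.1 fun g _ => ?_
  obtain ⟨γ, hγ, he⟩ := (hmove ▸ Subgroup.mem_top (q g) : q g ∈ Γ.map q)
  have hc : γ⁻¹ * g ∈ center G := hZc (QuotientGroup.eq.1 he)
  have : g = γ * (γ⁻¹ * g) := by group
  rw [this]
  refine mul_mem (Subgroup.le_normalizer hγ) ?_
  exact Subgroup.center_le_normalizer _ hc

end Setup

end CfsgLib.J1Weak
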