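import Cfsg.Prelude.Def_Spor_J1
import Cfsg.Agent.J1Weak.Model

/-!
# The weak closure of an involution in its centraliser being `C₂ × A₅`

Basic structure: the Sylow subgroup of the weak closure and its automizer.
-/

set_option autoImplicit false
set_option linter.style.haveILetI false
set_option linter.unusedSectionVars false

namespace CfsgLib.J1Weak

open scoped Pointwise

universe u

variable {G : Type u} [Group G]

/-- The conjugates of `t` commuting with `t`. -/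
def wcSet (t : G) : Set G := {x : G | ∃ g : G, x = g * t * g⁻¹ ∧ x * t = t * x}

/-- The weak closure of `t` in its centraliser. -/
def wc (t : G) : Subgroup G := Subgroup.closure (wcSet t)

/-- The hypothesis. -/
structure Hyp (t : G) : Prop where
  ord : orderOf t = 2
  cen : ∃ S : Sylow 2 G, t ∈ (S : Subgroup G) ∧ ∀ s ∈ (S : Subgroup G), s * t = t * s
  iso : Nonempty (↥(wc t) ≃* M)

/-- The conclusion, strengthened for induction. -/
def Goal (t : G) : Prop :=
  Cfsg.Spor.IsoJ1 ↥(Subgroup.normalClosure ({t} : Set G)) ∧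
    ∀ X : Subgroup G, wc t ≤ X → (∃ g ∈ X, g * t * g⁻¹ ∈ wc t ∧ g * t * g⁻¹ ≠ t) →
      Subgroup.normalClosure ({t} : Set G) ≤ X

theorem conj_commute {a b : G} (g : G) (h : a * b = b * a) :
    g * a * g⁻¹ * (g * b * g⁻¹) = g * b * g⁻¹ * (g * a * g⁻¹) := by
  rw [show g * a * g⁻¹ * (g * b * g⁻¹) = g * (a * b) * g⁻¹ by group, h]
  group

theorem conj_fix {a g : G} (h : g * a = a * g) : g * a * g⁻¹ = a := by
  rw [h, mul_inv_cancel_right]

theorem fix_conj {a g : G} (h : g * a * g⁻¹ = a) : g * a = a * g :=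
  mul_inv_eq_iff_eq_mul.1 h

theorem fix_inv {a g : G} (h : g * a = a * g) : g⁻¹ * a = a * g⁻¹ :=
  (Commute.inv_left h).eq

/-- The centralising elements of a point. -/
abbrev cent (a : G) : Subgroup G := Subgroup.centralizer ({a} : Set G)

theorem mem_cent {a g : G} : g ∈ cent a ↔ g * a = a * g :=
  Subgroup.mem_centralizer_singleton_iff

/-- A `2`-subgroup of a subgroup `C` containing a Sylow subgroup moves into it inside `C`. -/
theorem exists_conj_into [Finite G] {C : Subgroup G} (S : Sylow 2 G) (hS : (S : Subgroup G) ≤ C)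
    {P : Subgroup G} (hP : IsPGroup 2 P) (hPC : P ≤ C) :
    ∃ c ∈ C, ∀ y ∈ P, c⁻¹ * y * c ∈ (S : Subgroup G) := by
  have : Fact (Nat.Prime 2) := ⟨Nat.prime_two⟩
  obtain ⟨Q, hQ⟩ := (hP.comap_of_injective C.subtype C.subtype_injective).exists_le_sylow
  obtain ⟨c, hc⟩ := MulAction.exists_smul_eq C Q (S.subtype hS)
  refine ⟨(c : G)⁻¹, inv_mem c.2, fun y hy => ?_⟩
  have hy' : (⟨y, hPC hy⟩ : C) ∈ Q := hQ (show C.subtype ⟨y, hPC hy⟩ ∈ P from hy)
  have h2 : c * (⟨y, hPC hy⟩ : C) * c⁻¹ ∈ c • Q := by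
    rw [Sylow.smul_def]
    exact Subgroup.smul_mem_pointwise_smul _ (MulAut.conj c) _ hy'
  rw [hc] at h2
  rw [inv_inv]
  exact h2

/-- A chosen Sylow subgroup and isomorphism. -/
structure Setup (G : Type u) [Group G] where
  t : G
  S : Sylow 2 G
  ι : M →* G
  ord : orderOf t = 2
  htS : t ∈ (S : Subgroup G)
  hSc : ∀ s ∈ (S : Subgroup G), s * t = t * s
  ι_inj : Function.Injective ι
  ι_range : ι.range = wc t
  ι_z : ι z = t
  ι_E0 : ∀ m ∈ E0, ι m ∈ (S : Subgroup G)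

theorem t_mem_wcSet (t : G) : t ∈ wcSet t := ⟨1, by group, rfl⟩

theorem wc_commute {t y : G} (hy : y ∈ wc t) : y * t = t * y := by
  have : wc t ≤ cent t := (Subgroup.closure_le _).2 fun x ⟨_, _, hx⟩ => mem_cent.2 hx
  exact mem_cent.1 (this hy)

theorem Hyp.exists_setup [Finite G] {t : G} (h : Hyp t) : ∃ D : Setup G, D.t = t := by
  obtain ⟨e⟩ := h.iso
  obtain ⟨S, htS, hSc⟩ := h.cen
  let ι : M →* G := (wc t).subtype.comp e.symm.toMonoidHom
  have hinj : Function.Injective ι := (wc t).subtype_injective.comp e.symm.injective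
  have hrange : ι.range = wc t := by
    refine le_antisymm ?_ fun y hy => ⟨e ⟨y, hy⟩, by simp [ι]⟩
    rintro _ ⟨m, rfl⟩
    exact (e.symm m).2
  have htW : t ∈ wc t := Subgroup.subset_closure (t_mem_wcSet t)
  obtain ⟨m, hm⟩ : t ∈ ι.range := hrange ▸ htW
  have hz : ι z = t := by
    have hc : ∀ a : M, m * a = a * m := fun a => hinj (by
      rw [map_mul, map_mul, hm]
      exact (wc_commute (hrange.le (MonoidHom.mem_range.2 ⟨a, rfl⟩))).symm)
    rcases center_eq m (hc _) (hc _) with rfl | rfl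
    · rw [map_one] at hm
      have := h.ord
      rw [← hm, orderOf_one] at this
      omega
    · exact hm
  obtain ⟨c, hc, hP⟩ := exists_conj_into (C := cent t) S
    (fun s hs => mem_cent.2 (hSc s hs)) (P := E0.map ι)
    ((IsPGroup.of_card (p := 2) (n := 3) (by rw [card_E0]; norm_num)).map ι) (by
      rintro _ ⟨m', -, rfl⟩
      exact mem_cent.2 (wc_commute (hrange.le (MonoidHom.mem_range.2 ⟨_, rfl⟩))))
  have hmem : ∀ y : G, y ∈ ((c • S : Sylow 2 G) : Subgroup G) ↔ c⁻¹ * y * c ∈ (S : Subgroup G) := by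
    intro y
    rw [Sylow.smul_def, Sylow.pointwise_smul_def, Subgroup.mem_pointwise_smul_iff_inv_smul_mem]
    simp [MulAut.conj_inv_apply]
  refine ⟨⟨t, c • S, ι, h.ord, (hmem t).2 ?_, fun s hs => ?_, hinj, hrange, hz,
    fun m hm => (hmem _).2 (hP _ ⟨m, hm, rfl⟩)⟩, rfl⟩
  · rw [fix_inv (mem_cent.1 hc), inv_mul_cancel_right]
    exact htS
  · have h' := conj_commute c (hSc _ ((hmem s).1 hs))
    rw [conj_fix (mem_cent.1 hc), show c * (c⁻¹ * s * c) * c⁻¹ = s by group] at h'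
    exact h'

namespace Setup

variable (D : Setup G)

/-- The conjugates of `t`. -/
def IsD (x : G) : Prop := ∃ g : G, x = g * D.t * g⁻¹

/-- The weak closure. -/
abbrev W : Subgroup G := wc D.t

/-- The element of order three. -/
abbrev x : G := D.ι x0

/-- The points. -/
def pt (i : Fin 7) : G := D.ι (pts i)

/-- The Sylow subgroup of the weak closure. -/
def E : Subgroup G := E0.map D.ι

/-- Its normalizer. -/
abbrev N : Subgroup G := Subgroup.normalizer (D.E : Set G)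

/-- The centraliser of the weak closure. -/
abbrev R : Subgroup G := Subgroup.centralizer (D.W : Set G)

theorem isD_t : D.IsD D.t := ⟨1, by group⟩

theorem IsD.conj {D : Setup G} {y : G} (h : D.IsD y) (g : G) : D.IsD (g * y * g⁻¹) := by
  obtain ⟨k, rfl⟩ := h
  exact ⟨g * k, by group⟩

theorem IsD.orderOf {D : Setup G} {y : G} (h : D.IsD y) : orderOf y = 2 := by
  obtain ⟨k, rfl⟩ := h
  exact (orderOf_injective (MulAut.conj k).toMonoidHom (MulAut.conj k).injective D.t).trans D.ord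

theorem IsD.ne_one {D : Setup G} {y : G} (h : D.IsD y) : y ≠ 1 := by
  intro e
  have := h.orderOf
  rw [e, orderOf_one] at this
  omega

theorem IsD.sq {D : Setup G} {y : G} (h : D.IsD y) : y * y = 1 := by
  rw [← _root_.sq, ← h.orderOf, pow_orderOf_eq_one]

theorem IsD.inv_eq {D : Setup G} {y : G} (h : D.IsD y) : y⁻¹ = y :=
  inv_eq_of_mul_eq_one_right h.sq

theorem ι_mem (m : M) : D.ι m ∈ D.W := D.ι_range.le (MonoidHom.mem_range.2 ⟨m, rfl⟩)

theorem exists_ι {y : G} (hy : y ∈ D.W) : ∃ m, D.ι m = y :=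
  MonoidHom.mem_range.1 (D.ι_range.symm ▸ hy)

theorem ι_commute_t (m : M) : D.ι m * D.t = D.t * D.ι m := wc_commute (D.ι_mem m)

theorem mem_W_of_isD {y : G} (hy : D.IsD y) (hc : y * D.t = D.t * y) : y ∈ D.W :=
  Subgroup.subset_closure (by obtain ⟨g, hg⟩ := hy; exact ⟨g, hg, hc⟩)

theorem conj_mem_W {c y : G} (hc : c * D.t = D.t * c) (hy : y ∈ D.W) : c * y * c⁻¹ ∈ D.W := by
  have : D.W ≤ D.W.comap (MulAut.conj c).toMonoidHom := by
    refine (Subgroup.closure_le _).2 fun a ⟨g, hg, ha⟩ => ?_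
    have h := conj_commute c ha
    rw [conj_fix hc] at h
    exact D.mem_W_of_isD ((IsD.conj ⟨g, hg⟩ c)) h
  exact this hy

theorem mem_E {y : G} : y ∈ D.E ↔ ∃ m ∈ E0, D.ι m = y := Iff.rfl

theorem pt_mem (i : Fin 7) : D.pt i ∈ D.E := ⟨_, (pts_mem i).1, rfl⟩

theorem pt_zero : D.pt 0 = D.t := by rw [pt, pts_zero, D.ι_z]

theorem pt_ne_one (i : Fin 7) : D.pt i ≠ 1 := fun h =>
  (pts_mem i).2 (D.ι_inj (h.trans (map_one _).symm))

theorem pt_injective : Function.Injective D.pt := D.ι_inj.comp pts_injective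

theorem mem_E_cases {y : G} (hy : y ∈ D.E) : y = 1 ∨ ∃ i, y = D.pt i := by
  obtain ⟨m, hm, rfl⟩ := hy
  rcases (mem_E0_iff m).1 hm with rfl | ⟨i, rfl⟩
  · exact Or.inl (map_one _)
  · exact Or.inr ⟨i, rfl⟩

theorem t_mem_E : D.t ∈ D.E := D.pt_zero ▸ D.pt_mem 0

theorem card_E : Nat.card D.E = 8 :=
  (Subgroup.card_map_of_injective D.ι_inj).trans card_E0

theorem E_le_S : D.E ≤ (D.S : Subgroup G) := by
  rintro _ ⟨m, hm, rfl⟩
  exact D.ι_E0 m hm

theorem E_le_W : D.E ≤ D.W := by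
  rintro _ ⟨m, -, rfl⟩
  exact D.ι_mem m

theorem E_comm {a b : G} (ha : a ∈ D.E) (hb : b ∈ D.E) : a * b = b * a := by
  obtain ⟨m, hm, rfl⟩ := ha
  obtain ⟨n, hn, rfl⟩ := hb
  rw [← map_mul, ← map_mul]
  congr 1
  have h1 : m⁻¹ = m := inv_eq_of_mul_eq_one_right hm.2
  have h2 : n⁻¹ = n := inv_eq_of_mul_eq_one_right hn.2
  have h3 : (m * n)⁻¹ = m * n := inv_eq_of_mul_eq_one_right (E0_mul m n hm hn).2
  rw [← h3, mul_inv_rev, h1, h2]

theorem x_mem_W : D.x ∈ D.W := D.ι_mem _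

theorem x_pt (i : Fin 7) : D.x * D.pt i * D.x⁻¹ = D.pt (sig i) := by
  rw [pt, pt, ← map_inv, ← map_mul, ← map_mul, x0_pts]

variable [Finite G]

theorem mem_N {n : G} (h : ∀ y ∈ D.E, n * y * n⁻¹ ∈ D.E) : n ∈ D.N := by
  rw [Subgroup.mem_normalizer_iff_map_conj_eq]
  refine Subgroup.eq_of_le_of_card_ge ?_ ?_
  · rintro _ ⟨y, hy, rfl⟩
    exact h y hy
  · exact (Subgroup.card_map_of_injective (MulAut.conj n).injective).ge

theorem N_conj {n y : G} (hn : n ∈ D.N) (hy : y ∈ D.E) : n * y * n⁻¹ ∈ D.E :=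
  (Subgroup.mem_normalizer_iff.1 hn y).1 hy

theorem x_mem_N : D.x ∈ D.N := D.mem_N fun y hy => by
  rcases D.mem_E_cases hy with rfl | ⟨i, rfl⟩
  · simp
  · rw [x_pt]; exact D.pt_mem _

theorem S_inf_W {y : G} (hy : y ∈ (D.S : Subgroup G)) (hW : y ∈ D.W) : y ∈ D.E := by
  obtain ⟨m, rfl⟩ := D.exists_ι hW
  have : Fact (Nat.Prime 2) := ⟨Nat.prime_two⟩
  obtain ⟨k, hk⟩ := IsPGroup.iff_card.1 (D.S.2.comap_of_injective D.ι D.ι_inj)
  have hle : E0 ≤ (D.S : Subgroup G).comap D.ι := fun a ha => D.ι_E0 a ha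
  have hd := Subgroup.card_subgroup_dvd_card ((D.S : Subgroup G).comap D.ι)
  rw [card_M, hk] at hd
  have hk3 : k ≤ 3 := by
    by_contra hlt
    have h16 : (2 : ℕ) ^ 4 ∣ 120 := (pow_dvd_pow 2 (by omega : 4 ≤ k)).trans hd
    norm_num at h16
  have he : E0 = (D.S : Subgroup G).comap D.ι := by
    refine Subgroup.eq_of_le_of_card_ge hle ?_
    rw [hk, card_E0]
    calc 2 ^ k ≤ 2 ^ 3 := Nat.pow_le_pow_right (by norm_num) hk3
      _ = 8 := by norm_num
  exact ⟨m, he ▸ (Subgroup.mem_comap.2 hy), rfl⟩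

theorem isD_S {y : G} (hy : D.IsD y) (hS : y ∈ (D.S : Subgroup G)) : y ∈ D.E :=
  D.S_inf_W hS (D.mem_W_of_isD hy (D.hSc y hS))

theorem exists_ne_zero : ∃ i : Fin 7, i ≠ 0 ∧ D.IsD (D.pt i) := by
  by_contra hne
  push Not at hne
  have hsub : wcSet D.t ⊆ {D.t} := by
    rintro y ⟨g, hg, hc⟩
    have hyD : D.IsD y := ⟨g, hg⟩
    obtain ⟨m, rfl⟩ := D.exists_ι (D.mem_W_of_isD hyD hc)
    have hm : m * m = 1 := D.ι_inj (by rw [map_mul, map_one]; exact hyD.sq)
    obtain ⟨w, hw⟩ := invol_conj m hm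
    have hD : D.IsD (D.ι (w * m * w⁻¹)) := by
      rw [map_mul, map_mul, map_inv]; exact hyD.conj _
    rcases (mem_E0_iff _).1 hw with h | ⟨i, hi⟩
    · exact absurd (by rw [h, map_one] : D.ι (w * m * w⁻¹) = 1) hD.ne_one
    · by_cases h0 : i = 0
      · subst h0
        rw [pts_zero] at hi
        have hmz : m = z := by
          rw [mul_inv_eq_iff_eq_mul, ← z_central w] at hi
          exact mul_left_cancel hi
        rw [hmz, D.ι_z]
        rfl
      · rw [hi] at hD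
        exact absurd hD (hne i h0)
  have hle : D.W ≤ Subgroup.zpowers D.t := by
    rw [W, wc, Subgroup.closure_le]
    exact hsub.trans (Set.singleton_subset_iff.2 (Subgroup.mem_zpowers _))
  obtain ⟨k, hk⟩ := Subgroup.mem_zpowers_iff.1 (hle (D.ι_mem g5))
  have : g5 = z ^ k := D.ι_inj (by rw [map_zpow, D.ι_z, hk])
  apply not_mem_z _ (center_eq (z ^ k) ?_ ?_) this.symm
  all_goals exact (Commute.zpow_left (z_central _).symm k).eq

/-- `E` is weakly closed in `S`. -/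
theorem weakly_closed {g : G} (h : ∀ y ∈ D.E, g * y * g⁻¹ ∈ (D.S : Subgroup G)) : g ∈ D.N := by
  refine D.mem_N fun y hy => ?_
  obtain ⟨i, hi0, hi⟩ := D.exists_ne_zero
  have ht : g * D.t * g⁻¹ ∈ D.E := D.isD_S (D.isD_t.conj g) (h _ D.t_mem_E)
  rcases D.mem_E_cases hy with rfl | ⟨j, rfl⟩
  · simp
  have hkey : ∀ a : Fin 3,
      g * D.ι (x0 ^ (a : ℕ) * pts i * (x0 ^ (a : ℕ))⁻¹) * g⁻¹ ∈ D.E := by
    intro a
    refine D.isD_S (IsD.conj ?_ g) (h _ ?_)
    · rw [map_mul, map_mul, map_inv]; exact hi.conj _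
    · rw [map_mul, map_mul, map_inv, map_pow]
      exact D.N_conj (pow_mem D.x_mem_N _) (D.pt_mem i)
  rcases orbit_z i j hi0 with rfl | ⟨a, ha | ha⟩
  · rw [pt_zero]; exact ht
  · rw [pt, ha]; exact hkey a
  · rw [pt, ha, map_mul, D.ι_z, show ∀ b : G, g * (D.t * b) * g⁻¹ = g * D.t * g⁻¹ * (g * b * g⁻¹)
      from fun b => by group]
    exact mul_mem ht (hkey a)

theorem S_le_N : (D.S : Subgroup G) ≤ D.N := fun s hs =>
  D.weakly_closed fun _ hy => mul_mem (mul_mem hs (D.E_le_S hy)) (inv_mem hs)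

/-- Conjugates of `t` in `E` are fused in the normalizer. -/
theorem exists_N_move {y : G} (hy : D.IsD y) (hE : y ∈ D.E) :
    ∃ n ∈ D.N, n * D.t * n⁻¹ = y := by
  obtain ⟨g, rfl⟩ := hy
  have hmem : ∀ a : G, a ∈ ((g • D.S : Sylow 2 G) : Subgroup G) ↔
      g⁻¹ * a * g ∈ (D.S : Subgroup G) := fun a => by
    rw [Sylow.smul_def, Sylow.pointwise_smul_def, Subgroup.mem_pointwise_smul_iff_inv_smul_mem]
    simp [MulAut.conj_inv_apply]
  obtain ⟨c, hc, hP⟩ := exists_conj_into (C := cent (g * D.t * g⁻¹)) (g • D.S) (fun a ha => by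
      have := conj_commute g (D.hSc _ ((hmem a).1 ha))
      rw [show g * (g⁻¹ * a * g) * g⁻¹ = a by group] at this
      exact mem_cent.2 this)
    (P := D.E) (IsPGroup.of_card (p := 2) (n := 3) (by rw [D.card_E]; norm_num))
    (fun a ha => mem_cent.2 (D.E_comm ha hE))
  have hn : g⁻¹ * c⁻¹ ∈ D.N := D.weakly_closed fun a ha => by
    have := (hmem _).1 (hP a ha)
    rwa [show g⁻¹ * c⁻¹ * a * (g⁻¹ * c⁻¹)⁻¹ = g⁻¹ * (c⁻¹ * a * c) * g by group]
  refine ⟨c * g, by simpa [mul_inv_rev] using inv_mem hn, ?_⟩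
  rw [show c * g * D.t * (c * g)⁻¹ = c * (g * D.t * g⁻¹) * c⁻¹ by group, conj_fix (mem_cent.1 hc)]

end Setup

end CfsgLib.J1Weak
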